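import Cfsg.Agent.Six.B

/-! Normal four-groups; a Sylow 2-subgroup normalized by an element of order three. -/

set_option autoImplicit false
set_option linter.unusedSectionVars false

namespace CF.Six
open Subgroup CF.BG CF.CIT
open scoped commutatorElement
open Char.F3 (Tri mul_mem_of_relIndex_two)

variable {G : Type*} [Group G] [Finite G] {A B D K N Q R S T U V X Y : Subgroup G}
  {a b c g k q r s t u v x y z : G}

theorem norm_idx2 (l : T ≤ S) (i : T.relIndex S = 2) : S ≤ 𝐍 T := le_norm_iff.2 fun g hg k hk => by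
  by_cases e : g ∈ T
  · exact mul_mem (mul_mem e hk) (inv_mem e)
  · exact mul_mem_of_relIndex_two i (mul_mem hg (l hk)) (inv_mem hg)
      (by rwa [mul_mem_cancel_right hk]) (by simpa using e)

theorem zmod (ht : orderOf t = 2) (k : PiGrp {2} S) (l : S ≤ 𝐂₁ t) (n : X ⊴ S)
    (h1 : ¬ X ≤ zpowers t) : ∃ a ∈ X, a ≠ 1 ∧ a ≠ t ∧ (a * a = 1 ∨ a * a = t) ∧
      ∀ g ∈ S, g * a * g⁻¹ = a ∨ g * a * g⁻¹ = a * t := by
  have nS : S ≤ 𝐍 (zpowers t) := by rwa [norm_zp ht]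
  obtain ⟨c, hc, o, e⟩ := exists_zinv (k.qt (zpowers t)) (n.qt (zpowers t))
    (by rwa [Ne, qt_eq_bot (n.le.trans nS)])
  obtain ⟨a, ha, hn, rfl⟩ := mem_qt.1 hc
  have := ne2 o
  rw [Ne, qe_eq_one hn, mem2 ht, not_or] at this
  refine ⟨a, ha, this.1, this.2, ?_, fun g hg => ?_⟩
  · rw [← mem2 ht, ← qe_eq_one (mul_mem hn hn), qe_mul hn hn, sq2 o]
  · rw [← eqv ht, ← qe_eq_iff hn (nS (mul_mem (mul_mem hg (n.le ha)) (inv_mem hg))),
      qe_conj (nS hg) hn, e _ (qe_mem_qt hg (nS hg)), mul_inv_cancel_right]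

theorem Ac.nf (m : Ac t r Q) (h : Hy G) (kS : PiGrp {2} S) (n : Q ⊴ S) (l : S ≤ 𝐂₁ t)
    (i : ∀ g ∈ S, ∃ q ∈ Q, g * r * g⁻¹ = q * r ∨ g * r * g⁻¹ = q * r⁻¹) :
    (∃ s ∈ Q, orderOf s = 2 ∧ s ≠ t ∧ ∀ g ∈ S, g * s * g⁻¹ = s ∨ g * s * g⁻¹ = s * t) ∨
      ∀ q ∈ Q, q * q = 1 → q = 1 ∨ q = t := by
  by_cases h0 : Q ≤ zpowers t
  · exact .inr fun q hq _ => (mem2 m.o2).1 (h0 hq)
  obtain ⟨a, ha, a1, a2, a3 | a3, a4⟩ := zmod m.o2 kS l n h0
  · exact .inl ⟨a, ha, ord2 a3 a1, a2, a4⟩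
  have t2 := sq2 m.o2
  have t1 := ne2 m.o2
  have cS : ∀ {g}, g ∈ S → g * t = t * g := fun hg => mem_cent1.1 (l hg)
  have P : ∀ {r}, Ac t r Q → r * a * r⁻¹ * (r * a * r⁻¹) = t ∧ ∀ g ∈ Q,
      g * (r * a * r⁻¹) * g⁻¹ = r * a * r⁻¹ ∨ g * (r * a * r⁻¹) * g⁻¹ = r * a * r⁻¹ * t := by
    intro r m
    refine ⟨by rw [← m.cjt, ← a3]; group, fun g hg => ?_⟩
    have e : g * (r * a * r⁻¹) * g⁻¹ = r * (r⁻¹ * g * r * a * (r⁻¹ * g * r)⁻¹) * r⁻¹ := by group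
    rw [e]
    refine (a4 _ (n.le (m.cj' hg))).imp (fun e => by rw [e]) fun e => ?_
    rw [e]; nth_rw 2 [← m.cjt]; group
  obtain ⟨b3, b4⟩ := P m
  obtain ⟨c3, c4⟩ := P m.inv
  have nr := (mem2 m.o2).1 (m.nrm h ha)
  have bQ := m.cj ha
  have cQ := m.cj' ha
  have hb : ∀ g ∈ S, g * (r * a * r⁻¹) * g⁻¹ ∈ closure {r * a * r⁻¹, r⁻¹ * a * r, t} := by
    intro g hg
    obtain ⟨q, hq, e⟩ := i g hg
    have m1 : r * a * r⁻¹ ∈ closure {r * a * r⁻¹, r⁻¹ * a * r, t} := subset_closure (by simp)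
    have m2 : r⁻¹ * a * r ∈ closure {r * a * r⁻¹, r⁻¹ * a * r, t} := subset_closure (by simp)
    have m3 : t ∈ closure {r * a * r⁻¹, r⁻¹ * a * r, t} := subset_closure (by simp)
    have F : ∀ {r'}, Ac t r' Q → g * r * g⁻¹ = q * r' → ∃ z ∈ zpowers t,
        g * (r * a * r⁻¹) * g⁻¹ = q * (r' * a * r'⁻¹) * q⁻¹ * z := fun {r'} m' e => by
      have : g * (r * a * r⁻¹) * g⁻¹ = g * r * g⁻¹ * (g * a * g⁻¹) * (g * r * g⁻¹)⁻¹ := by group
      rw [this, e]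
      rcases a4 g hg with f | f <;> rw [f]
      · exact ⟨1, one_mem _, by group⟩
      · refine ⟨t, mem_zpowers t, ?_⟩
        calc _ = q * (r' * a * r'⁻¹) * q⁻¹ * (q * (r' * t * r'⁻¹) * q⁻¹) := by group
          _ = _ := by rw [m'.cjt, m.cm hq]; group
    rcases e with e | e
    · obtain ⟨z, hz, e⟩ := F m e
      rw [e]
      refine mul_mem ?_ (zpowers_le.2 m3 hz)
      rcases b4 q hq with f | f <;> rw [f]
      exacts [m1, mul_mem m1 m3]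
    · obtain ⟨z, hz, e⟩ := F m.inv e
      rw [e]
      refine mul_mem ?_ (zpowers_le.2 m3 hz)
      rcases c4 q hq with f | f <;> rw [f, inv_inv]
      exacts [m2, mul_mem m2 m3]
  rw [inv_inv] at c3
  have ct := m.cm cQ
  clear c4 P i
  generalize r * a * r⁻¹ = b at *
  generalize r⁻¹ * a * r = c at *
  have ab : a * b * (a * b) = t := by
    have c5 : c⁻¹ * c⁻¹ = t := by rw [← mul_inv_rev, c3, inv2 m.o2]
    rcases nr with e | e <;> rw [eq_mul_inv_of_mul_eq e]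
    · simpa using c5
    · calc t * c⁻¹ * (t * c⁻¹) = t * c⁻¹ * (t * c) * (c⁻¹ * c⁻¹) := by group
        _ = t * t * (c⁻¹ * c⁻¹) := by rw [← ct]; group
        _ = t := by rw [t2, c5, one_mul]
  have nc : a * b ≠ b * a := fun e => t1 (by
    calc t = a * (b * a) * b := by rw [← ab]; group
      _ = a * a * (b * b) := by rw [← e]; group
      _ = 1 := by rw [a3, b3, t2])
  have e1 : a * b * a⁻¹ = b * t := (b4 a ha).resolve_left fun e => nc (mul_inv_eq_iff_eq_mul.1 e)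
  have e2 : b * a * b⁻¹ = a * t :=
    (a4 b (n.le bQ)).resolve_left fun e => nc (mul_inv_eq_iff_eq_mul.1 e).symm
  have nC : Q ⊓ (𝐂₁ a ⊓ 𝐂₁ b) ⊴ S := by
    refine ⟨inf_le_left.trans n.le, le_norm_iff.2 fun g hg k hk => ⟨n.conj_mem hg hk.1, ?_⟩⟩
    have m1 : a ∈ 𝐂₁ k := mem_cent1_comm.1 hk.2.1
    have m2 : b ∈ 𝐂₁ k := mem_cent1_comm.1 hk.2.2
    have m3 : t ∈ 𝐂₁ k := mem_cent1_comm.1 (m.le hk.1)
    have m4 : c ∈ 𝐂₁ k := by
      rcases nr with e | e <;> rw [eq_inv_mul_of_mul_eq e]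
      exacts [mul_mem (inv_mem (mul_mem m1 m2)) (one_mem _), mul_mem (inv_mem (mul_mem m1 m2)) m3]
    have F : ∀ {w}, g⁻¹ * w * g⁻¹⁻¹ ∈ 𝐂₁ k → g * k * g⁻¹ ∈ 𝐂₁ w := fun hw => by
      rw [mem_cent1_comm, ← cj_cent1, mem_cj]; simpa using hw
    refine ⟨F ?_, F ((closure_le _).2 ?_ (hb _ (inv_mem hg)))⟩
    · rcases a4 _ (inv_mem hg) with f | f <;> rw [f]
      exacts [m1, mul_mem m1 m3]
    · rintro _ (rfl | rfl | rfl) <;> assumption
  by_cases h1 : Q ⊓ (𝐂₁ a ⊓ 𝐂₁ b) ≤ zpowers t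
  · refine .inr fun q hq q2 => ?_
    have F : ∀ w ∈ Q, w * a * w⁻¹ = q * a * q⁻¹ → w * b * w⁻¹ = q * b * q⁻¹ → q = w ∨ q = w * t :=
      fun w hw f1 f2 => (eqv m.o2).1 (h1 ⟨Q.mul_mem (Q.inv_mem hw) hq, mem_cent1.2 (by
        calc w⁻¹ * q * a = w⁻¹ * (q * a * q⁻¹) * q := by group
          _ = _ := by rw [← f1]; group), mem_cent1.2 (by
        calc w⁻¹ * q * b = w⁻¹ * (q * b * q⁻¹) * q := by group
          _ = _ := by rw [← f2]; group)⟩)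
    have F' : ∀ w ∈ Q, w * w = t → ¬ (q = w ∨ q = w * t) := by
      rintro w hw e (rfl | rfl)
      · exact t1 (e.symm.trans q2)
      · refine t1 ?_
        calc t = w * w * (t * t) := by rw [e, t2, mul_one]
          _ = w * (w * t) * t := by group
          _ = 1 := by rw [m.cm hw, ← q2]; group
    rcases a4 q (n.le hq) with f1 | f1 <;> rcases b4 q hq with f2 | f2
    · simpa using F 1 (one_mem _) (by simp [f1]) (by simp [f2])
    · exact (F' a ha a3 (F a ha (by simp [f1]) (by rw [f2, e1]))).elim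
    · exact (F' b bQ b3 (F b bQ (by rw [f1, e2]) (by simp [f2]))).elim
    · refine (F' _ (mul_mem ha bQ) ab (F _ (mul_mem ha bQ) ?_ ?_)).elim
      · calc _ = a * (b * a * b⁻¹) * a⁻¹ := by group
          _ = _ := by rw [e2, f1, mul_assoc, mul_assoc, ← m.cm (inv_mem ha), mul_inv_cancel_left]
      · rw [f2, ← e1]; group
  obtain ⟨d, hd, d1, d2, d3 | d3, d4⟩ := zmod m.o2 kS l nC h1
  · exact .inl ⟨d, hd.1, ord2 d3 d1, d2, d4⟩
  have da := mem_cent1.1 hd.2.1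
  have F : ∀ z ∈ 𝐂₁ b, a * d ≠ z := fun z hz e => nc (mem_cent1.1 (by
    rw [eq_mul_inv_of_mul_eq e]; exact mul_mem hz (inv_mem hd.2.2)))
  refine .inl ⟨a * d, mul_mem ha hd.1, ord2 ?_ (F _ (one_mem _)),
    F _ (mem_cent1.2 (m.cm bQ).symm), fun g hg => ?_⟩
  · calc a * d * (a * d) = a * (d * a) * d := by group
      _ = a * a * (d * d) := by rw [da]; group
      _ = 1 := by rw [a3, d3, t2]
  · have : g * (a * d) * g⁻¹ = g * a * g⁻¹ * (g * d * g⁻¹) := by group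
    rw [this]
    have dt := m.cm hd.1
    rcases a4 g hg with f | f <;> rcases d4 g hg with f' | f' <;> rw [f, f']
    · exact .inl rfl
    · exact .inr (mul_assoc _ _ _).symm
    · exact .inr (by rw [mul_assoc, ← dt, mul_assoc])
    · exact .inl (by rw [dt, mul_assoc, ← mul_assoc t, t2, one_mul])

/-- `t` is the only central involution of the Sylow subgroup `S`; `⟨t, s⟩` is normal in `S` -/
structure Fo (S : Subgroup G) (t s : G) : Prop where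
  syl : Syl 2 S ⊤
  o2 : orderOf t = 2
  mem : t ∈ S
  le : S ≤ 𝐂₁ t
  uq : ∀ c ∈ S, orderOf c = 2 → (∀ g ∈ S, g * c = c * g) → c = t
  sS : s ∈ S
  os : orderOf s = 2
  ne : s ≠ t
  cj : ∀ g ∈ S, g * s * g⁻¹ = s ∨ g * s * g⁻¹ = s * t

namespace Fo
variable (f : Fo S t s)
include f

theorem st : s * t = t * s := mem_cent1.1 (f.le f.sS)

theorem ex : ∃ σ ∈ S, σ * s * σ⁻¹ = s * t := by
  by_contra! H
  exact f.ne (f.uq s f.sS f.os fun g hg =>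
    mul_inv_eq_iff_eq_mul.1 ((f.cj g hg).resolve_right (H g hg)))

theorem idx : (S ⊓ 𝐂₁ s).relIndex S = 2 := by
  rw [inf_relIndex_left]
  have := relIndex_le_card (T := S) (v := s) (X := zpowers t) fun g hg => (eqv f.o2).2 (f.cj g hg)
  rw [card2 f.o2] at this
  have h1 := relIndex_pos (𝐂₁ s) S
  have h2 : (𝐂₁ s).relIndex S ≠ 1 := fun e => f.ne (f.uq s f.sS f.os fun g hg =>
    mem_cent1.1 (relIndex_eq_one.1 e hg))
  omega

theorem card : ♯(S ⊓ 𝐂₁ s) * 2 = ♯S := f.idx ▸ card_mul_relIndex inf_le_left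

theorem tT : t ∈ S ⊓ 𝐂₁ s := ⟨f.mem, mem_cent1.2 f.st.symm⟩
theorem sT : s ∈ S ⊓ 𝐂₁ s := ⟨f.sS, self_mem_cent1 s⟩

theorem ctr (hc : c ∈ S ⊓ 𝐂₁ s) (c2 : c * c = 1) (e : ∀ g ∈ S ⊓ 𝐂₁ s, g * c = c * g) :
    c = 1 ∨ c = t ∨ c = s ∨ c = s * t := by
  obtain ⟨σ, hσ, e1⟩ := f.ex
  have t2 := sq2 f.o2
  have n := norm_idx2 inf_le_left f.idx
  have nσ : σ ∉ S ⊓ 𝐂₁ s := fun k => ne2 f.o2 (by
    rw [mem_cent1.1 k.2, mul_inv_cancel_right] at e1; simpa using e1)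
  have F : ∀ d ∈ S, d * d = 1 → (∀ g ∈ S ⊓ 𝐂₁ s, g * d = d * g) → σ * d * σ⁻¹ = d → d = 1 ∨ d = t := by
    intro d hd d2 e e'
    refine or_iff_not_imp_left.2 fun d1 => f.uq d hd (ord2 d2 d1) fun g hg => ?_
    by_cases k : g ∈ S ⊓ 𝐂₁ s
    · exact e g k
    have := e _ (mul_mem_of_relIndex_two f.idx (inv_mem hσ) hg (by simpa using nσ) k)
    calc g * d = σ * (σ⁻¹ * g * d) := by group
      _ = σ * d * σ⁻¹ * g := by rw [this]; group
      _ = _ := by rw [e']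
  have dT := conj_mem_of_norm (n hσ) hc
  have e2 : ∀ g ∈ S ⊓ 𝐂₁ s, g * (σ * c * σ⁻¹) = σ * c * σ⁻¹ * g := fun g hg => by
    calc _ = σ * (σ⁻¹ * g * σ * c) * σ⁻¹ := by group
      _ = _ := by rw [e _ (conj_mem_of_norm' (n hσ) hg)]; group
  have e3 : σ * (σ * c * σ⁻¹) * σ⁻¹ = c := by
    calc _ = σ * σ * c * (σ * σ)⁻¹ := by group
      _ = _ := by rw [e _ (mul_mem_of_relIndex_two f.idx hσ hσ nσ nσ)]; group
  have d2 : σ * c * σ⁻¹ * (σ * c * σ⁻¹) = 1 := by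
    calc _ = σ * (c * c) * σ⁻¹ := by group
      _ = 1 := by rw [c2]; group
  have cs := mem_cent1.1 hc.2
  have ct := mem_cent1.1 (f.le hc.1)
  rcases F (c * (σ * c * σ⁻¹)) (mul_mem hc.1 dT.1) (by
      calc _ = c * (σ * c * σ⁻¹ * c) * (σ * c * σ⁻¹) := by group
        _ = c * c * (σ * c * σ⁻¹ * (σ * c * σ⁻¹)) := by rw [← e2 c hc]; group
        _ = 1 := by rw [c2, d2, mul_one])
    (fun g hg => by rw [← mul_assoc, e g hg, mul_assoc, e2 g hg, ← mul_assoc c]) (by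
      calc _ = σ * c * σ⁻¹ * (σ * (σ * c * σ⁻¹) * σ⁻¹) := by group
        _ = _ := by rw [e3, e2 c hc]) with k | k
  · have := (eq_inv_of_mul_eq_one_right k).trans (inv_eq_of_mul_eq_one_right c2)
    exact (F c hc.1 c2 e this).imp_right .inl
  have k' : σ * c * σ⁻¹ = c * t := by rw [← k, ← mul_assoc, c2, one_mul]
  rcases F (c * s) (mul_mem hc.1 f.sS) (by
      calc _ = c * (s * c) * s := by group
        _ = c * c * (s * s) := by rw [← cs]; group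
        _ = 1 := by rw [c2, sq2 f.os, mul_one])
    (fun g hg => by rw [← mul_assoc, e g hg, mul_assoc, mem_cent1.1 hg.2, mul_assoc]) (by
      calc _ = σ * c * σ⁻¹ * (σ * s * σ⁻¹) := by group
        _ = c * (t * t) * s := by rw [k', e1, f.st]; group
        _ = _ := by rw [t2, mul_one]) with j | j
  · exact .inr (.inr (.inl ((eq_inv_of_mul_eq_one_left j).trans (inv2 f.os))))
  · exact .inr (.inr (.inr (by rw [eq_mul_inv_of_mul_eq j, inv2 f.os, f.st])))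

theorem tri (h : Hy G) : ∃ y ∈ 𝐍 (S ⊓ 𝐂₁ s), Tri y t s := by
  obtain ⟨σ, hσ, e1⟩ := f.ex
  obtain ⟨P, hP, l⟩ := exists_syl_le (inf_le_right : S ⊓ 𝐂₁ s ≤ _) f.syl.pi.inf_left
  have hP' := h.syl_top f.os hP
  have i : (S ⊓ 𝐂₁ s).relIndex P = 2 := by
    have := card_mul_relIndex l
    rw [hP'.card_eq f.syl, ← f.card] at this
    exact Nat.eq_of_mul_eq_mul_left (card_pos' _) this
  obtain ⟨g, -, rfl⟩ := f.syl.syl_conj hP'
  have F : ∀ c ∈ BG.cj g S, orderOf c = 2 → BG.cj g S ≤ 𝐂₁ c → g⁻¹ * c * g = t := fun c hc o k =>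
    f.uq _ (mem_cj.1 hc) (by simpa using (orderOf_conj' g⁻¹ c).trans o) fun a ha => by
      calc _ = g⁻¹ * (g * a * g⁻¹ * c) * g := by group
        _ = _ := by rw [mem_cent1.1 (k (conj_mem_cj.2 ha))]; group
  obtain ⟨τ, hτ, e2⟩ : ∃ τ ∈ BG.cj g S, τ ∉ 𝐂₁ t := SetLike.not_le_iff_exists.1 fun k => f.ne (by
    simpa using (F s (l f.sT) f.os hP.le).trans (F t (l f.tT) f.o2 k).symm)
  have nτ := norm_idx2 l i hτ
  have nσ := norm_idx2 inf_le_left f.idx hσ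
  have e3 : τ * s * τ⁻¹ = s := mul_inv_eq_iff_eq_mul.2 (mem_cent1.1 (hP.le hτ))
  have e4 : τ * t * τ⁻¹ = s * t := by
    rcases f.ctr (conj_mem_of_norm nτ f.tT) (by
      calc _ = τ * (t * t) * τ⁻¹ := by group
        _ = 1 := by rw [sq2 f.o2]; group) (fun a ha => by
      calc _ = τ * (τ⁻¹ * a * τ * t) * τ⁻¹ := by group
        _ = _ := by rw [mem_cent1.1 (f.le (conj_mem_of_norm' nτ ha).1)]; group) with k | k | k | k
    · exact absurd (by simpa using k) (ne2 f.o2)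
    · exact absurd (mem_cent1.2 (mul_inv_eq_iff_eq_mul.1 k)) e2
    · exact absurd (by simpa using e3.trans k.symm) f.ne
    · exact k
  have e0 : σ * t * σ⁻¹ = t := mul_inv_eq_iff_eq_mul.2 (mem_cent1.1 (f.le hσ))
  have w1 : σ * τ * t * (σ * τ)⁻¹ = s := by
    calc _ = σ * (τ * t * τ⁻¹) * σ⁻¹ := by group
      _ = σ * s * σ⁻¹ * (σ * t * σ⁻¹) := by rw [e4]; group
      _ = s := by rw [e1, e0, mul_assoc, sq2 f.o2, mul_one]
  have w2 : σ * τ * s * (σ * τ)⁻¹ = s * t := by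
    calc _ = σ * (τ * s * τ⁻¹) * σ⁻¹ := by group
      _ = _ := by rw [e3, e1]
  have nw := mul_mem nσ nτ
  generalize σ * τ = w at *
  have w3 : w * (s * t) * w⁻¹ = t := by
    calc _ = w * s * w⁻¹ * (w * t * w⁻¹) := by group
      _ = t := by rw [w1, w2, f.st, mul_assoc, sq2 f.os, mul_one]
  obtain ⟨y, hy, y3, c, hc, rfl⟩ := exists_cube (w := w) (K := 𝐂₁ t ⊓ 𝐂₁ s)
    ⟨mem_cent1.2 (mul_inv_eq_iff_eq_mul.1 (by
      calc _ = w * (w * (w * t * w⁻¹) * w⁻¹) * w⁻¹ := by group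
        _ = t := by rw [w1, w2, w3])), mem_cent1.2 (mul_inv_eq_iff_eq_mul.1 (by
      calc _ = w * (w * (w * s * w⁻¹) * w⁻¹) * w⁻¹ := by group
        _ = s := by rw [w2, w3, w1]))⟩ (h.four f.o2 f.os f.ne f.st)
  have y1 : w * c * t * (w * c)⁻¹ = s := by
    rw [mul_assoc w, mem_cent1.1 hc.1, ← w1]; group
  refine ⟨_, zpowers_le.2 nw hy, ord3 y3 fun e => f.ne ?_, f.o2, y1, ?_⟩
  · rw [← y1, e]; group
  · rw [mul_assoc w, mem_cent1.1 hc.2, ← f.st, ← w2]; group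

/-- the conjugate of `s` under an element of order three centralizing `t` -/
theorem other (h : Hy G) (m : Ac t r Q) (hs : s ∈ Q) :
    ¬ (r * s * r⁻¹ = 1 ∨ r * s * r⁻¹ = t ∨ r * s * r⁻¹ = s ∨ r * s * r⁻¹ = s * t) := by
  rintro (e | e | e)
  · exact ne2 f.os (by simpa using e)
  · exact f.ne (by simpa using e.trans m.cjt.symm)
  · exact (m.fix h hs e).elim (ne2 f.os) f.ne

theorem not_norm (h : Hy G) (hr : orderOf r = 3) : r ∉ 𝐍 S := fun n => by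
  have m : Ac t r S := ⟨f.o2, hr, mul_inv_eq_iff_eq_mul.1 (f.uq _ (conj_mem_of_norm n f.mem)
    (by rw [orderOf_conj', f.o2]) fun g hg => by
      calc _ = r * (r⁻¹ * g * r * t) * r⁻¹ := by group
        _ = _ := by rw [mem_cent1.1 (f.le (conj_mem_of_norm' n hg))]; group),
    f.syl.pi, f.mem, f.le, n⟩
  obtain ⟨y, hy, T⟩ := f.tri h
  have e := m.mod h
  have F := h.fp f.syl.pi.inf_left T.o3 hy (by have := f.card; omega)
  have aT : r * s * r⁻¹ ∈ S ⊓ 𝐂₁ s := ⟨m.cj f.sS, mem_cent1.2 (m.comm h f.sS (sq2 f.os)).symm⟩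
  refine f.other h m f.sS (f.ctr aT (by
    calc _ = r * (s * s) * r⁻¹ := by group
      _ = 1 := by rw [sq2 f.os]; group) fun g hg => mul_inv_eq_iff_eq_mul.1 (F.idx (z := t) aT ?_ hg))
  intro g hg
  have e : g * (r * s * r⁻¹) * g⁻¹ = r * (r⁻¹ * g * r * s * (r⁻¹ * g * r)⁻¹) * r⁻¹ := by group
  rw [e]
  refine (f.cj _ (m.cj' hg.1)).imp (fun e => by rw [e]) fun e => ?_
  rw [e]; nth_rw 2 [← m.cjt]; group

end Fo

theorem wf (hr : orderOf r = 3) (oR : PiGrp {2}ᶜ R) (n : r ∈ 𝐍 R) (f : R ⊓ 𝐂₁ r = ⊥)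
    (kV : PiGrp {2} V) (hN : N ⊴ V) (a : r ∈ 𝐍 V) (b : R ≤ 𝐍 V) (a' : r ∈ 𝐍 N) (b' : R ≤ 𝐍 N)
    (e : V ⊓ 𝐂₁ r ≤ N) : N ⊔ (V ⊓ 𝐂 R) = V := by
  have kN := kV.le hN.le
  rw [← zpowers_le] at n a a'
  have F : ∀ {K}, zpowers r ≤ 𝐍 K → K ⊓ 𝐂₁ r ≤ N → qt N K ⊓ 𝐂 (qt N (zpowers r)) = ⊥ :=
    fun n e => by
      rw [← qt_inf_cent' a' n (cop3 hr kN) (.inl (abel_zpowers r).sol), cent_zpowers, qt_of_le e]
  have := (reg_of_prime (by
    rw [card_qt_of_inf_bot a' (kN.inf_eq_bot (odd3 hr)), card3 hr]; exact p3)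
    (F n (f ▸ bot_le))).cent_of_fpf (qt_norm _ n) (kV.qt N).sol (qt_norm _ a) (qt_norm _ b)
    (coprime_qt _ (oR.coprime' kV)) (coprime_qt _ (cop3 hr kV)) (F a e)
  rw [qt_cent_iff b' hN.norm, commutator_comm] at this
  exact sup_inf_cent_of_comm_le hN.le b' (oR.coprime' kN) (.inr kN.sol) this

/-- a Sylow 2-subgroup normalized by an element of order three fixing an involution is abelian -/
theorem Ac.abel (m : Ac t r S) (h : Hy G) (hS : Syl 2 S ⊤) : Abel S := by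
  by_cases h0 : ∀ c ∈ S, orderOf c = 2 → (∀ g ∈ S, g * c = c * g) → c = t
  · rcases m.nf h m.pi (.refl S) m.le (fun g hg => ⟨g * (r * g⁻¹ * r⁻¹),
      mul_mem hg (m.cj (inv_mem hg)), .inl (by group)⟩) with ⟨s, hs, os, ne, e⟩ | e
    · exact absurd m.n (Fo.not_norm ⟨hS, m.o2, m.mem, m.le, h0, hs, os, ne, e⟩ h m.o3)
    · obtain ⟨s, hs, os, ne⟩ := h.zs S t hS m.mem m.o2
      exact ((e s hs (sq2 os)).elim (ne2 os) ne).elim
  push Not at h0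
  obtain ⟨z, hz, oz, cz, ne⟩ := h0
  have s1 : Syl 2 S (𝐍 S) := hS.of_le (le_norm_self S) le_top
  obtain ⟨K, hK⟩ := exists_compl (normalIn_norm S) s1.coprime
  have oK := hK.pi'_right s1
  obtain ⟨k, hk, l⟩ := exists_cj_le_of_le_sup hK.norm (hK.sup ▸ zpowers_le.2 m.n) (cop3 m.o3 m.pi)
    (.inr m.pi.sol)
  rw [cj_zpowers, zpowers_le] at l
  replace m : Ac t (k * r * k⁻¹) S := ⟨m.o2, by rw [orderOf_conj', m.o3], mem_cent1.1 (mul_mem
    (mul_mem (m.le hk) (mem_cent1.2 m.c)) (inv_mem (m.le hk))), m.pi, m.mem, m.le, hK.norm l⟩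
  generalize k * r * k⁻¹ = r at *
  have c1 : K ⊓ 𝐂₁ r ≤ zpowers r := fun g hg => by
    refine h.odd m.o2 m.o3 m.c (oK.elt hg.1) ?_ (mem_cent1.1 hg.2)
    have : g * t * g⁻¹ ∈ S ⊓ 𝐂₁ r := ⟨conj_mem_of_norm (hK.norm hg.1) m.mem,
      (𝐂₁ r).mul_mem ((𝐂₁ r).mul_mem hg.2 (mem_cent1.2 m.c.symm)) ((𝐂₁ r).inv_mem hg.2)⟩
    rw [m.cent h, mem2 m.o2] at this
    exact mul_inv_eq_iff_eq_mul.1 (this.resolve_left fun e => ne2 m.o2 (by simpa using e))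
  have c2 : K ⊓ 𝐍 (zpowers r) ≤ 𝐂 (zpowers r) := by
    have := relIndex_cent_dvd_pred (X := zpowers r) (by rw [card3 m.o3]; exact p3)
      (inf_le_right : K ⊓ _ ≤ _)
    rw [card3 m.o3] at this
    exact oK.inf_left.le_of_relIndex' ((piNat_self p2).compl_compl.dvd this)
  have l' := zpowers_le.2 l
  have s3 : Syl 3 (zpowers r) K := syl_of_syl_norm l' (by
    rw [le_antisymm ((le_inf inf_le_left (cent_zpowers r ▸ c2)).trans c1) (le_inf l' (le_norm_self _))]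
    exact .refl (pi3 m.o3))
  have sd := (s3.burnside c2).sdprod s3
  set R := 𝐎 {3}ᶜ K
  have RK : R ≤ K := sd.left_le
  have nZ : 𝐍 S ≤ 𝐍 (𝛀 2 (𝐙 S)) := le_norm_Om 2 (norm_center S)
  have ZS : 𝛀 2 (𝐙 S) ≤ 𝐙 S := Om_le _ _
  have e := wf m.o3 (oK.le RK) (sd.norm (mem_zpowers r))
    (eq_bot_mono sd.inf (le_inf inf_le_left ((inf_le_inf_right _ RK).trans c1))) m.pi
    ⟨ZS.trans inf_le_left, (le_norm_self S).trans nZ⟩ m.n (RK.trans hK.norm) (nZ m.n)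
    (RK.trans (hK.norm.trans nZ)) (by
      rw [m.cent h, zpowers_le]
      exact mem_Om ⟨m.mem, fun g hg => m.cm hg⟩ (by rw [sq, sq2 m.o2]))
  by_cases h1 : S ⊓ 𝐂 R = ⊥
  · rw [h1, sup_bot_eq] at e
    exact e ▸ (center_abel S).mono ZS
  have F : ∀ {a b}, orderOf a = 2 → orderOf b = 2 → (∀ g ∈ S, g * a = a * g) →
      (∀ g ∈ S, g * b = b * g) → ∃ k ∈ K, k * a * k⁻¹ = b := fun oa ob ca cb => by
    obtain ⟨g, e⟩ := h.cj _ _ oa ob
    obtain ⟨n, hn, e⟩ := fuse hS ca cb e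
    obtain ⟨k, hk, a, ha, rfl⟩ := hK.exists_mul' hn
    exact ⟨k, hk, by rw [← e, mul_assoc k a, ca a ha]; group⟩
  obtain ⟨c, hc, oc, cc⟩ := exists_zinv m.pi (X := S ⊓ 𝐂 R) ⟨inf_le_left, e.ge.trans (sup_le
    (norm_of_cent (cent_mono inf_le_right ZS inf_le_left)) (le_norm_self _))⟩ h1
  obtain ⟨k, hk, e1⟩ := F oc m.o2 cc fun g hg => m.cm hg
  obtain ⟨j, hj, e2⟩ := F m.o2 oz (fun g hg => m.cm hg) cz
  have : K ≤ 𝐂₁ t := sd.sup ▸ sup_le (le_cent1_iff.2 (e1 ▸ conj_mem_of_norm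
    (norm_cent sd.normal.norm hk) hc.2)) (zpowers_le.2 (mem_cent1.2 m.c))
  exact absurd (by rw [← e2, mem_cent1.1 (this hj), mul_inv_cancel_right]) ne

end CF.Six
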