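import Cfsg.Agent.CIT.Basic
import Cfsg.Agent.Char.F3e
import Cfsg.Agent.Char.ZStarCor

/-! Groups with one class of involutions and a self-centralizing element of order six: basics. -/

set_option autoImplicit false
set_option linter.unusedSectionVars false

namespace CF.Six
open Subgroup CF.BG CF.CIT
open scoped commutatorElement

variable {G : Type*} [Group G] [Finite G] {A B D K Q R S T U V X Y : Subgroup G}
  {a b c g k q r s t u v x y z : G}

theorem p2 : Nat.Prime 2 := Nat.prime_two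
theorem p3 : Nat.Prime 3 := Nat.prime_three

theorem sq2 (h : orderOf t = 2) : t * t = 1 := by rw [← sq, ← h, pow_orderOf_eq_one]
theorem ne2 (h : orderOf t = 2) : t ≠ 1 := by rintro rfl; simp at h
theorem inv2 (h : orderOf t = 2) : t⁻¹ = t := inv_eq_of_mul_eq_one_right (sq2 h)
theorem ord2 (h : t * t = 1) (h1 : t ≠ 1) : orderOf t = 2 := orderOf_eq_prime (by rw [sq, h]) h1
theorem cu3 (h : orderOf r = 3) : r * r * r = 1 := Char.F3.mul3 h
theorem ne3 (h : orderOf r = 3) : r ≠ 1 := Char.F3.ne_one3 h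
theorem ord3 (h : r * r * r = 1) (h1 : r ≠ 1) : orderOf r = 3 := Char.F3.ord3_of h h1
theorem inv3 (h : orderOf r = 3) : orderOf r⁻¹ = 3 := by rwa [orderOf_inv]

theorem mem2 (h : orderOf t = 2) : a ∈ zpowers t ↔ a = 1 ∨ a = t := by
  refine ⟨?_, fun e => e.elim (fun e => e ▸ one_mem _) fun e => e ▸ mem_zpowers _⟩
  rintro ⟨n, rfl⟩
  have e : t ^ (2 : ℤ) = 1 := by rw [zpow_two, sq2 h]
  rcases Int.even_or_odd' n with ⟨m, rfl | rfl⟩
  · left; simp only [zpow_mul, e, one_zpow]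
  · right; simp only [zpow_add, zpow_mul, e, one_zpow, zpow_one, one_mul]

theorem card2 (h : orderOf t = 2) : ♯(zpowers t) = 2 := by rw [Nat.card_zpowers, h]
theorem card3 (h : orderOf t = 3) : ♯(zpowers t) = 3 := by rw [Nat.card_zpowers, h]
theorem pi2 (h : orderOf t = 2) : PiGrp {2} (zpowers t) := piGrp_of_card_prime p2 (card2 h)
theorem pi3 (h : orderOf t = 3) : PiGrp {3} (zpowers t) := piGrp_of_card_prime p3 (card3 h)
theorem odd3 (h : orderOf t = 3) : PiGrp {2}ᶜ (zpowers t) := (pi3 h).of_single_ne (by decide)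
theorem cop3 (h : orderOf r = 3) (k : PiGrp {2} R) : (♯(zpowers r)).Coprime (♯R) :=
  (odd3 h).coprime' k
theorem nd3 (k : PiGrp {2} R) : ¬ 3 ∣ ♯R := fun d => absurd (k 3 p3 d) (by simp)

theorem cn (h : g * t = t * g) : g ∈ 𝐍 (zpowers t) :=
  cent_le_norm _ (by rw [cent_zpowers]; exact mem_cent1.2 h)

theorem norm_zp (h : orderOf t = 2) : 𝐍 (zpowers t) = 𝐂₁ t := by
  refine le_antisymm (fun g hg => mem_cent1.2 ?_) fun g hg => cn (mem_cent1.1 hg)
  rcases (mem2 h).1 (conj_mem_of_norm hg (mem_zpowers t)) with e | e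
  · exact absurd (by simpa using e) (ne2 h)
  · exact mul_inv_eq_iff_eq_mul.1 e

theorem exists_zinv (k : PiGrp {2} S) (n : X ⊴ S) (h1 : X ≠ ⊥) :
    ∃ c ∈ X, orderOf c = 2 ∧ ∀ g ∈ S, g * c = c * g := by
  obtain ⟨Y, hY⟩ := k.exists_elem_center n h1
  obtain ⟨c, c1, hc, -⟩ := hY.exists_gen
  exact ⟨c, (hY.le hc).1, hY.ab.orderOf hc c1, fun g hg => (hY.le hc).2.2 g hg⟩

/-- a power of `w` of order dividing three in the same coset -/
theorem exists_cube {w : G} (hw : w * w * w ∈ K) (h3 : ¬ 3 ∣ ♯K) :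
    ∃ y ∈ zpowers w, y * y * y = 1 ∧ ∃ c ∈ K, y = w * c := by
  have e : ♯K * ♯K % 3 = 1 := by
    have : ♯K % 3 = 1 ∨ ♯K % 3 = 2 := by omega
    rcases this with e | e <;> simp [Nat.mul_mod, e]
  have e1 : (w * w * w) ^ ♯K = 1 := orderOf_dvd_iff_pow_eq_one.1 (orderOf_dvd_card' hw)
  rw [← pow_three'] at e1 hw
  refine ⟨w ^ (♯K * ♯K), pow_mem (mem_zpowers w) _, ?_, (w ^ 3) ^ (♯K * ♯K / 3), pow_mem hw _, ?_⟩
  · rw [← pow_three', ← pow_mul, mul_comm, ← mul_assoc, pow_mul, pow_mul, e1, one_pow]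
  · rw [← pow_mul, ← pow_succ']; congr 1; omega

/-! ### fixed-point-free elements of order three -/

/-- `r` has order dividing three and acts on `K` without fixed points -/
structure Fp (r : G) (K : Subgroup G) : Prop where
  cu : r * r * r = 1
  n : r ∈ 𝐍 K
  f : K ⊓ 𝐂₁ r = ⊥

namespace Fp
variable (h : Fp r K)
include h

theorem ex (hk : k ∈ K) : ∃ g ∈ K, g⁻¹ * (r * g * r⁻¹) = k := Coprime.fpf_exists_eq h.n h.f hk

theorem cj (hk : k ∈ K) : r * k * r⁻¹ ∈ K := conj_mem_of_norm h.n hk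
theorem cj' (hk : k ∈ K) : r⁻¹ * k * r ∈ K := conj_mem_of_norm' h.n hk

theorem inv : Fp r⁻¹ K :=
  ⟨by rw [← mul_inv_rev, ← mul_inv_rev, ← mul_assoc, h.cu, inv_one], inv_mem h.n, Coprime.fpf_inv h.f⟩

theorem nrm (hk : k ∈ K) : k * (r * k * r⁻¹) * (r⁻¹ * k * r) = 1 := by
  obtain ⟨g, -, rfl⟩ := h.ex hk
  calc _ = g⁻¹ * (r * r * g * (r * r * r)⁻¹ * g⁻¹ * r) * g := by group
    _ = g⁻¹ * (r * r * g * 1⁻¹ * g⁻¹ * r) * g := by rw [h.cu]
    _ = g⁻¹ * (r * r * r) * g := by group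
    _ = 1 := by rw [h.cu]; group

theorem comm (hk : k ∈ K) : k * (r * k * r⁻¹) = r * k * r⁻¹ * k := by
  have h1 := h.nrm hk
  have h2 := h.inv.nrm hk
  rw [inv_inv] at h2
  have e1 : r⁻¹ * k * r = (k * (r * k * r⁻¹))⁻¹ := eq_inv_of_mul_eq_one_right h1
  rw [e1] at h2
  calc k * (r * k * r⁻¹) = (r * k * r⁻¹) * ((k * (k * (r * k * r⁻¹))⁻¹ * (r * k * r⁻¹)) *
        ((r * k * r⁻¹)⁻¹ * (k * (r * k * r⁻¹)))) := by rw [h2]; group
    _ = _ := by group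

theorem one (hk : k ∈ K) (e : r * k * r⁻¹ = k) : k = 1 :=
  eq_one_of_mem_bot h.f ⟨hk, mem_cent1.2 (mul_inv_eq_iff_eq_mul.1 e).symm⟩

/-- no element has exactly two conjugates -/
theorem idx (hu : u ∈ K) (hz : ∀ g ∈ K, g * u * g⁻¹ = u ∨ g * u * g⁻¹ = u * z) (hg : g ∈ K) :
    g * u * g⁻¹ = u := by
  by_contra h0
  have e0 := (hz g hg).resolve_left h0
  have zK : z ∈ K := by
    have := mul_mem (inv_mem hu) (mul_mem (mul_mem hg hu) (inv_mem hg))
    rwa [e0, inv_mul_cancel_left] at this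
  have z1 : z ≠ 1 := fun e => h0 (by rw [e0, e, mul_one])
  have o : ∀ a ∈ K, a * u * a⁻¹ = u → a * z * a⁻¹ = z := fun a ha e => by
    rcases hz _ (mul_mem ha hg) with f | f
    · refine absurd ?_ h0
      calc g * u * g⁻¹ = a⁻¹ * (a * g * u * (a * g)⁻¹) * a := by group
        _ = a⁻¹ * (a * u * a⁻¹) * a := by rw [f, e]
        _ = u := by group
    · calc a * z * a⁻¹ = (a * u * a⁻¹)⁻¹ * (a * (u * z) * a⁻¹) := by group
        _ = u⁻¹ * (a * g * u * (a * g)⁻¹) := by rw [e, ← e0]; group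
        _ = z := by rw [f]; group
  obtain ⟨a, ha, e1, e2⟩ : ∃ a ∈ K, a * u * a⁻¹ = u ∧ r⁻¹ * a * r * u * (r⁻¹ * a * r)⁻¹ = u * z := by
    by_contra! H
    have H' : ∀ a ∈ K, a * u * a⁻¹ = u → r⁻¹ * a * r * u * (r⁻¹ * a * r)⁻¹ = u := fun a ha e =>
      (hz _ (h.cj' ha)).resolve_right (H a ha e)
    obtain ⟨b, hb, e⟩ := h.inv.ex hg
    rw [inv_inv] at e
    rcases hz b hb with f | f
    · refine h0 ?_
      calc g * u * g⁻¹ = b⁻¹ * (r⁻¹ * b * r * u * (r⁻¹ * b * r)⁻¹) * b := by rw [← e]; group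
        _ = b⁻¹ * (b * u * b⁻¹) * b := by rw [H' b hb f, f]
        _ = u := by group
    rcases hz _ (h.cj' hb) with f' | f'
    · have := H' _ (h.cj' (h.cj' hb)) (H' _ (h.cj' hb) f')
      have e3 : r⁻¹ * (r⁻¹ * (r⁻¹ * b * r) * r) * r = b := by
        calc _ = (r * r * r)⁻¹ * b * (r * r * r) := by group
          _ = b := by rw [h.cu]; group
      rw [e3, f] at this
      exact z1 (by simpa using this)
    · refine h0 ?_
      calc g * u * g⁻¹ = b⁻¹ * (r⁻¹ * b * r * u * (r⁻¹ * b * r)⁻¹) * b := by rw [← e]; group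
        _ = b⁻¹ * (b * u * b⁻¹) * b := by rw [f', f]
        _ = u := by group
  have n1 := h.nrm hu
  have n2 := h.nrm zK
  have f1 : a * (r * u * r⁻¹) * a⁻¹ = r * u * r⁻¹ * (r * z * r⁻¹) := by
    calc _ = r * (r⁻¹ * a * r * u * (r⁻¹ * a * r)⁻¹) * r⁻¹ := by group
      _ = _ := by rw [e2]; group
  have f0 : u * (r * u * r⁻¹ * (r * z * r⁻¹)) * (a * (r⁻¹ * u * r) * a⁻¹) = 1 := by
    calc _ = a * u * a⁻¹ * (a * (r * u * r⁻¹) * a⁻¹) * (a * (r⁻¹ * u * r) * a⁻¹) := by rw [e1, f1]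
      _ = a * (u * (r * u * r⁻¹) * (r⁻¹ * u * r)) * a⁻¹ := by group
      _ = 1 := by rw [n1]; group
  have e3 : r⁻¹ * u * r = (u * (r * u * r⁻¹))⁻¹ := eq_inv_of_mul_eq_one_right n1
  have f2 : a * (r⁻¹ * u * r) * a⁻¹ = r⁻¹ * (r * a * r⁻¹ * u * (r * a * r⁻¹)⁻¹) * r := by group
  have c1 : r * r * u * r⁻¹ * r⁻¹ = r⁻¹ * u * r := by
    calc _ = r⁻¹ * (r * r * r) * u * (r * r * r)⁻¹ * r := by group
      _ = _ := by rw [h.cu]; group
  have c2 := o _ (h.cj hu) (by rw [← h.comm hu]; group)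
  have c3 : r⁻¹ * u * r * (r * z * r⁻¹) = r * z * r⁻¹ * (r⁻¹ * u * r) := by
    rw [← c1]
    calc _ = r * (r * u * r⁻¹ * z * (r * u * r⁻¹)⁻¹) * (r * u * r⁻¹) * r⁻¹ := by group
      _ = _ := by rw [c2]; group
  have f3 : r * z * r⁻¹ * (a * (r⁻¹ * u * r) * a⁻¹) = r⁻¹ * u * r := by
    rw [e3]
    calc _ = (u * (r * u * r⁻¹))⁻¹ * (u * (r * u * r⁻¹ * (r * z * r⁻¹)) *
        (a * (u * (r * u * r⁻¹))⁻¹ * a⁻¹)) := by group
      _ = _ := by rw [← e3, f0]; group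
  rcases hz _ (h.cj ha) with f | f
  · rw [f2, f] at f3
    exact z1 (by simpa using f3)
  · rw [f2, f] at f3
    have : r * z * r⁻¹ * (r⁻¹ * z * r) = 1 := by
      calc _ = (r⁻¹ * u * r)⁻¹ * (r⁻¹ * u * r * (r * z * r⁻¹)) * (r⁻¹ * z * r) := by group
        _ = (r⁻¹ * u * r)⁻¹ * (r * z * r⁻¹ * (r⁻¹ * (u * z) * r)) := by rw [c3]; group
        _ = 1 := by rw [f3]; group
    rw [mul_assoc, this, mul_one] at n2
    exact z1 n2

end Fp

end CF.Six
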