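import Cfsg.Agent.Six.A

/-! The hypothesis `Hy`; action modulo an involution; normal four-groups. -/

set_option autoImplicit false
set_option linter.unusedSectionVars false

namespace CF.Six
open Subgroup CF.BG CF.CIT
open scoped commutatorElement

/-- one class of involutions; each involution lies in a self-centralizing cyclic group of order six -/
structure Hy (G : Type*) [Group G] : Prop where
  cj : ∀ a b : G, orderOf a = 2 → orderOf b = 2 → ∃ g, g * a * g⁻¹ = b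
  ex : ∀ a : G, orderOf a = 2 → ∃ x, orderOf x = 3 ∧ x * a = a * x
  f2 : ∀ a r : G, orderOf a = 2 → orderOf r = 3 → r * a = a * r → ♯(𝐂₁ a ⊓ 𝐂₁ r) = 6
  zs : ∀ (S : Subgroup G) (t : G), Syl 2 S ⊤ → t ∈ S → orderOf t = 2 →
    ∃ s ∈ S, orderOf s = 2 ∧ s ≠ t

variable {G : Type*} [Group G] [Finite G] {A B D K N Q R S T U V X Y : Subgroup G}
  {a b c g k q r s t u v x y z : G}

theorem zp_eq (hz : z ∈ zpowers x) (h : orderOf x = 3) (z1 : z ≠ 1) : zpowers z = zpowers x :=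
  zpowers_eq_of_prime (by rw [card3 h]; exact p3) hz z1

theorem six_of [IsSimpleGroup G] (hG : ¬ IsMulCommutative G)
    (h1 : ∀ x y : G, orderOf x = 2 → orderOf y = 2 → IsConj x y) (hy : orderOf y = 6)
    (hC : 𝐂₁ y = zpowers y) : Hy G := by
  have cj : ∀ a b : G, orderOf a = 2 → orderOf b = 2 → ∃ g, g * a * g⁻¹ = b :=
    fun a b ha hb => isConj_iff.1 (h1 a b ha hb)
  have ot : orderOf (y ^ 3) = 2 := by rw [orderOf_pow' _ (by decide), hy]; rfl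
  have ox : orderOf (y ^ 2) = 3 := by rw [orderOf_pow' _ (by decide), hy]; rfl
  have cm : y ^ 2 * y ^ 3 = y ^ 3 * y ^ 2 := by group
  have e : 𝐂₁ (y ^ 3) ⊓ 𝐂₁ (y ^ 2) = zpowers y := by
    refine le_antisymm (fun g hg => hC ▸ mem_cent1.2 ?_) (zpowers_le.2 ⟨mem_cent1.2 (by group),
      mem_cent1.2 (by group)⟩)
    calc g * y = g * y ^ 3 * (y ^ 2)⁻¹ := by group
      _ = y ^ 3 * (y ^ 2)⁻¹ * (y ^ 2 * g) * (y ^ 2)⁻¹ := by rw [mem_cent1.1 hg.1]; group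
      _ = y * g := by rw [← mem_cent1.1 hg.2]; group
  have c6 : ♯(𝐂₁ (y ^ 3) ⊓ 𝐂₁ (y ^ 2)) = 6 := by rw [e, Nat.card_zpowers, hy]
  have le : zpowers (y ^ 2) ≤ 𝐂₁ (y ^ 3) ⊓ 𝐂₁ (y ^ 2) :=
    zpowers_le.2 ⟨mem_cent1.2 cm, self_mem_cent1 _⟩
  have s0 : Syl 3 (zpowers (y ^ 2)) (𝐂₁ (y ^ 3) ⊓ 𝐂₁ (y ^ 2)) := syl_mk p3 le (pi3 ox) (by
    have := card_mul_relIndex le
    rw [card3 ox, c6] at this
    omega)
  have n0 : 𝐂₁ (y ^ 3) ⊓ 𝐂₁ (y ^ 2) ≤ 𝐍 (zpowers (y ^ 2)) := fun g hg => cn (mem_cent1.1 hg.2)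
  have s3 : Syl 3 (zpowers (y ^ 2)) (𝐂₁ (y ^ 3)) := by
    refine syl_of_max (le.trans inf_le_left) (pi3 ox) fun P hP k l => le_antisymm ?_ l
    obtain ⟨Z, hZ⟩ := k.exists_elem_center (.refl P) (ne_bot_of_mem (l (mem_zpowers _)) (ne3 ox))
    obtain ⟨z, z1, hz, -⟩ := hZ.exists_gen
    have hz' := hZ.le hz
    have := zp_eq (s0.mem_normal n0 ⟨hP hz'.1, mem_cent1.2 (hz'.2.2 _ (l (mem_zpowers _))).symm⟩
      (k.elt hz'.1)) ox z1
    refine s0.le_normal n0 (le_inf hP ?_) k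
    rw [← cent_zpowers, ← this, cent_zpowers]
    exact fun g hg => mem_cent1.2 (hz'.2.2 g hg)
  refine ⟨cj, fun a ha => ?_, fun a r ha hr c => ?_, fun S t hS ht ot => ?_⟩
  · obtain ⟨g, rfl⟩ := cj _ _ ot ha
    exact ⟨g * y ^ 2 * g⁻¹, by rw [orderOf_conj', ox], by group⟩
  · obtain ⟨g, rfl⟩ := cj _ _ ot ha
    have o : orderOf (g⁻¹ * r * g⁻¹⁻¹) = 3 := by rw [orderOf_conj', hr]
    obtain ⟨k, hk, l⟩ := s3.syl_cj_le (K := zpowers (g⁻¹ * r * g⁻¹⁻¹)) (zpowers_le.2 (mem_cent1.2 (by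
      calc _ = g⁻¹ * (r * (g * y ^ 3 * g⁻¹)) * g := by group
        _ = _ := by rw [c]; group))) (pi3 o)
    rw [cj_zpowers] at l
    have e2 := zp_eq (l (mem_zpowers _)) ox (ne3 (by rw [orderOf_conj', o]))
    have e3 : g * k⁻¹ * y ^ 3 * (g * k⁻¹)⁻¹ = g * y ^ 3 * g⁻¹ := by
      calc _ = g * k⁻¹ * (y ^ 3 * k) * g⁻¹ := by group
        _ = _ := by rw [← mem_cent1.1 hk]; group
    have e4 : g * k⁻¹ * (k * (g⁻¹ * r * g⁻¹⁻¹) * k⁻¹) * (g * k⁻¹)⁻¹ = r := by group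
    rw [← c6, ← card_cj (g * k⁻¹) (𝐂₁ (y ^ 3) ⊓ _), cj_inf, cj_cent1, ← cent_zpowers (y ^ 2), ← e2,
      cent_zpowers, cj_cent1, e3, e4]
  · by_contra! H
    haveI := Fact.mk p2
    obtain ⟨P, rfl⟩ := hS.exists_sylow_top
    exact hG ⟨⟨Char.comm_of_simple_of_inZStar ot (Char.inZStar_of_weaklyClosed P ht fun g hg =>
      H _ hg (by rw [orderOf_conj', ot]))⟩⟩

theorem mod3 (hr : orderOf r = 3) (n : r ∈ 𝐍 K) : ♯K % 3 = ♯(K ⊓ 𝐂₁ r) % 3 := by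
  haveI := Fact.mk p3
  have := Transfer.card_modEq_card_inf_centralizer (pi3 hr).isPGroup (zpowers_le.2 n)
  rwa [cent_zpowers] at this

theorem exists_inv_comm (k : PiGrp {2} R) (h : R ⊓ 𝐂₁ g ≠ ⊥) :
    ∃ a ∈ R, orderOf a = 2 ∧ g * a = a * g :=
  let ⟨a, ha, o⟩ := exists_inv k.inf_left h
  ⟨a, ha.1, o, (mem_cent1.1 ha.2).symm⟩

/-- Burnside's fusion lemma -/
theorem fuse (hS : Syl 2 S ⊤) (ha : ∀ g ∈ S, g * a = a * g) (hb : ∀ g ∈ S, g * b = b * g)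
    (e : g * a * g⁻¹ = b) : ∃ n ∈ 𝐍 S, n * a * n⁻¹ = b := by
  haveI := Fact.mk p2
  obtain ⟨P, rfl⟩ := hS.exists_sylow_top
  obtain ⟨n, hn, e'⟩ := Transfer.exists_normalizer_conj_of_centralizer P (A := {a}) (g := g)
    (by rintro _ rfl; exact ha) (by rintro _ rfl; rw [e]; exact hb)
  exact ⟨n, hn, (e' a rfl).trans e⟩

namespace Hy
variable (h : Hy G)
include h

theorem two (ha : orderOf a = 2) (hr : orderOf r = 3) (c : r * a = a * r) (hg : PiElt {2} g)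
    (h1 : g * a = a * g) (h2 : g * r = r * g) : g = 1 ∨ g = a := by
  have le : zpowers a ≤ 𝐂₁ a ⊓ 𝐂₁ r := zpowers_le.2 ⟨self_mem_cent1 _, mem_cent1.2 c.symm⟩
  have s : Syl 2 (zpowers a) (𝐂₁ a ⊓ 𝐂₁ r) := syl_mk p2 le (pi2 ha) (by
    have := card_mul_relIndex le
    rw [card2 ha, h.f2 a r ha hr c] at this
    omega)
  exact (mem2 ha).1 (s.mem_normal (fun g hg => cn (mem_cent1.1 hg.1))
    ⟨mem_cent1.2 h1, mem_cent1.2 h2⟩ hg)

theorem odd (ha : orderOf a = 2) (hr : orderOf r = 3) (c : r * a = a * r) (hg : PiElt {2}ᶜ g)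
    (h1 : g * a = a * g) (h2 : g * r = r * g) : g ∈ zpowers r := by
  have le : zpowers r ≤ 𝐂₁ a ⊓ 𝐂₁ r := zpowers_le.2 ⟨mem_cent1.2 c, self_mem_cent1 _⟩
  have s : Hall {2}ᶜ (zpowers r) (𝐂₁ a ⊓ 𝐂₁ r) := ⟨le, odd3 hr, by
    have := card_mul_relIndex le
    rw [card3 hr, h.f2 a r ha hr c] at this
    rw [show (zpowers r).relIndex (𝐂₁ a ⊓ 𝐂₁ r) = 2 by omega]
    exact (piNat_self p2).compl_compl⟩
  exact s.mem_normal (fun g hg => cn (mem_cent1.1 hg.2)) ⟨mem_cent1.2 h1, mem_cent1.2 h2⟩ hg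

theorem cent_eq (k : PiGrp {2} R) (hr : orderOf r = 3) (ha : a ∈ R) (o : orderOf a = 2)
    (c : r * a = a * r) : R ⊓ 𝐂₁ r = zpowers a := by
  have m : a ∈ R ⊓ 𝐂₁ r := ⟨ha, mem_cent1.2 c.symm⟩
  obtain ⟨z, hz, oz, e⟩ := exists_zinv k.inf_left (.refl _) (ne_bot_of_mem m (ne2 o))
  have : ∀ g ∈ R ⊓ 𝐂₁ r, g = 1 ∨ g = z := fun g hg =>
    h.two oz hr (mem_cent1.1 hz.2).symm (k.elt hg.1) (e g hg) (mem_cent1.1 hg.2)
  obtain rfl := (this a m).resolve_left (ne2 o)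
  exact le_antisymm (fun g hg => (mem2 o).2 (this g hg)) (zpowers_le.2 m)

theorem mod2 (k : PiGrp {2} R) (hr : orderOf r = 3) (n : r ∈ 𝐍 R) (ha : a ∈ R) (o : orderOf a = 2)
    (c : r * a = a * r) : ♯R % 3 = 2 := by
  rw [mod3 hr n, h.cent_eq k hr ha o c, card2 o]

theorem fp (k : PiGrp {2} R) (hr : orderOf r = 3) (n : r ∈ 𝐍 R) (e : ♯R % 3 ≠ 2) : Fp r R :=
  ⟨cu3 hr, n, by_contra fun h1 =>
    let ⟨_, ha, o, c⟩ := exists_inv_comm k h1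
    e (h.mod2 k hr n ha o c)⟩

theorem exists_syl (ht : orderOf t = 2) : ∃ S, Syl 2 S ⊤ ∧ t ∈ S ∧ S ≤ 𝐂₁ t := by
  obtain ⟨S, hS, l⟩ := exists_syl_le le_top (pi2 ht)
  obtain ⟨z, hz, o, e⟩ := exists_zinv hS.pi (.refl S) (ne_bot_of_mem (l (mem_zpowers t)) (ne2 ht))
  obtain ⟨g, rfl⟩ := h.cj z t o ht
  refine ⟨BG.cj g S, by simpa using hS.cj g, conj_mem_cj.2 hz, ?_⟩
  rw [← cj_cent1]
  exact cj_mono g fun a ha => mem_cent1.2 (e a ha)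

theorem syl_top (ht : orderOf t = 2) (hS : Syl 2 S (𝐂₁ t)) : Syl 2 S ⊤ :=
  let ⟨_, h1, _, h2⟩ := h.exists_syl ht
  h1.of_card le_top (hS.card_eq (h1.of_le h2 le_top))

theorem four (ht : orderOf t = 2) (hs : orderOf s = 2) (ne : s ≠ t) (c : s * t = t * s) :
    ¬ 3 ∣ ♯(𝐂₁ t ⊓ 𝐂₁ s) := fun d => by
  obtain ⟨r, hr, o⟩ := exists_mem_orderOf_eq p3 d
  exact (h.two ht o (mem_cent1.1 hr.1) (piElt_of_sq (sq2 hs)) c
    (mem_cent1.1 hr.2).symm).elim (ne2 hs) ne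

end Hy

/-- `K` is a 2-group centralizing the involution `t ∈ K`, normalized by `r` of order 3 -/
structure Ac (t r : G) (K : Subgroup G) : Prop where
  o2 : orderOf t = 2
  o3 : orderOf r = 3
  c : r * t = t * r
  pi : PiGrp {2} K
  mem : t ∈ K
  le : K ≤ 𝐂₁ t
  n : r ∈ 𝐍 K

theorem eqv (ht : orderOf t = 2) : a⁻¹ * b ∈ zpowers t ↔ b = a ∨ b = a * t := by
  rw [mem2 ht, inv_mul_eq_one, inv_mul_eq_iff_eq_mul, eq_comm]

namespace Ac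
variable (m : Ac t r K)
include m

theorem inv : Ac t r⁻¹ K :=
  ⟨m.o2, inv3 m.o3, (Commute.inv_left m.c :), m.pi, m.mem, m.le, inv_mem m.n⟩

theorem mono (hR : R ≤ K) (ht : t ∈ R) (n : r ∈ 𝐍 R) : Ac t r R :=
  ⟨m.o2, m.o3, m.c, m.pi.le hR, ht, hR.trans m.le, n⟩

theorem cm (hk : k ∈ K) : k * t = t * k := mem_cent1.1 (m.le hk)
theorem cj (hk : k ∈ K) : r * k * r⁻¹ ∈ K := conj_mem_of_norm m.n hk
theorem cj' (hk : k ∈ K) : r⁻¹ * k * r ∈ K := conj_mem_of_norm' m.n hk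
theorem cjt : r * t * r⁻¹ = t := mul_inv_eq_iff_eq_mul.2 m.c
theorem nK : K ≤ 𝐍 (zpowers t) := fun _ hk => cn (m.cm hk)

variable (h : Hy G)
include h

theorem cent : K ⊓ 𝐂₁ r = zpowers t := h.cent_eq m.pi m.o3 m.mem m.o2 m.c
theorem mod : ♯K % 3 = 2 := h.mod2 m.pi m.o3 m.n m.mem m.o2 m.c

theorem fp : Fp (qe (zpowers t) r) (qt (zpowers t) K) := by
  have n := cn m.c
  refine ⟨by rw [← qe_mul n n, ← qe_mul (mul_mem n n) n, cu3 m.o3, qe_one], ?_, ?_⟩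
  · rw [← zpowers_le, ← qt_zpowers n]
    exact qt_norm _ (zpowers_le.2 m.n)
  · rw [← cent_zpowers, ← qt_zpowers n, ← qt_inf_cent' (zpowers_le.2 n) (zpowers_le.2 m.n)
      (cop3 m.o3 (pi2 m.o2)) (.inl (abel_zpowers r).sol), cent_zpowers, m.cent h]
    exact qt_of_le le_rfl

theorem nrm (hk : k ∈ K) : k * (r * k * r⁻¹) * (r⁻¹ * k * r) ∈ zpowers t := by
  have n := cn m.c
  have l := m.nK hk
  have := (m.fp h).nrm (qe_mem_qt hk l)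
  rwa [← qe_conj n l, ← qe_inv n, ← qe_mul (inv_mem n) l, ← qe_mul (mul_mem (inv_mem n) l) n,
    ← qe_mul l (m.nK (m.cj hk)), ← qe_mul (m.nK (mul_mem hk (m.cj hk))) (m.nK (m.cj' hk)),
    qe_eq_one (m.nK (mul_mem (mul_mem hk (m.cj hk)) (m.cj' hk)))] at this

theorem fix (hk : k ∈ K) (e : r * k * r⁻¹ = k ∨ r * k * r⁻¹ = k * t) : k = 1 ∨ k = t := by
  have l := m.nK hk
  rw [← mem2 m.o2, ← qe_eq_one l]
  refine (m.fp h).one (qe_mem_qt hk l) ?_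
  rw [← qe_conj (cn m.c) l, eq_comm, qe_eq_iff l (m.nK (m.cj hk)), eqv m.o2]
  exact e

theorem idx (hu : u ∈ K) (hz : z ∈ K)
    (H : ∀ g ∈ K, u⁻¹ * (g * u * g⁻¹) ∈ zpowers t ∨ (u * z)⁻¹ * (g * u * g⁻¹) ∈ zpowers t)
    (hg : g ∈ K) : g * u * g⁻¹ = u ∨ g * u * g⁻¹ = u * t := by
  have l := m.nK hu
  have c : ∀ {g}, g ∈ K → g * u * g⁻¹ ∈ 𝐍 (zpowers t) := fun hg =>
    m.nK (mul_mem (mul_mem hg hu) (inv_mem hg))
  rw [← eqv m.o2, ← qe_eq_iff l (c hg), qe_conj (m.nK hg) l, eq_comm]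
  refine (m.fp h).idx (z := qe _ z) (qe_mem_qt hu l) ?_ (qe_mem_qt hg (m.nK hg))
  intro w hw
  obtain ⟨g, hg, hn, rfl⟩ := mem_qt.1 hw
  rw [← qe_conj hn l, ← qe_mul l (m.nK hz), eq_comm, qe_eq_iff l (c hg), eq_comm,
    qe_eq_iff (m.nK (mul_mem hu hz)) (c hg)]
  exact H g hg

/-- a subgroup of index at most two centralizing `u` modulo `t` -/
theorem idx2 (hu : u ∈ K) (i : D.relIndex K ≤ 2)
    (H : ∀ g ∈ D, g ∈ K → g * u * g⁻¹ = u ∨ g * u * g⁻¹ = u * t) (hg : g ∈ K) :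
    g * u * g⁻¹ = u ∨ g * u * g⁻¹ = u * t := by
  by_cases l : K ≤ D
  · exact H g (l hg) hg
  obtain ⟨w, hw, w1⟩ := SetLike.not_le_iff_exists.1 l
  have i2 : D.relIndex K = 2 := by
    have := relIndex_pos D K
    have : D.relIndex K ≠ 1 := fun e => l (relIndex_eq_one.1 e)
    omega
  refine m.idx h hu (z := u⁻¹ * (w * u * w⁻¹))
    (mul_mem (inv_mem hu) (mul_mem (mul_mem hw hu) (inv_mem hw))) (fun g hg => ?_) hg
  by_cases e : g ∈ D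
  · exact .inl ((eqv m.o2).2 (H g e hg))
  refine .inr ((eqv m.o2).2 ?_)
  have := H _ (Char.F3.mul_mem_of_relIndex_two i2 (inv_mem hw) hg (by simpa using w1) e)
    (mul_mem (inv_mem hw) hg)
  have e1 : g * u * g⁻¹ = w * (w⁻¹ * g * u * (w⁻¹ * g)⁻¹) * w⁻¹ := by group
  rw [e1, mul_inv_cancel_left]
  refine this.imp (fun e => by rw [e]) fun e => ?_
  rw [e, ← mul_assoc, mul_assoc _ t, ← m.cm (inv_mem hw), ← mul_assoc]

/-- an involution commutes with its conjugate -/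
theorem comm (hk : k ∈ K) (e : k * k = 1) : k * (r * k * r⁻¹) = r * k * r⁻¹ * k := by
  have c1 := m.cm (m.cj' hk)
  have e1 : r⁻¹ * k * r * (r⁻¹ * k * r) = 1 := by
    calc _ = r⁻¹ * (k * k) * r := by group
      _ = 1 := by rw [e]; group
  have e2 : r * k * r⁻¹ * (r * k * r⁻¹) = 1 := by
    calc _ = r * (k * k) * r⁻¹ := by group
      _ = 1 := by rw [e]; group
  have t2 := sq2 m.o2
  have n := (mem2 m.o2).1 (m.nrm h hk)
  generalize r * k * r⁻¹ = a at *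
  generalize r⁻¹ * k * r = b at *
  have : k * a * (k * a) = 1 := by
    rcases n with n | n <;> rw [eq_mul_inv_of_mul_eq n, inv_eq_of_mul_eq_one_right e1]
    · simpa using e1
    · calc t * b * (t * b) = t * (b * t) * b := by group
        _ = t * t * (b * b) := by rw [c1]; group
        _ = 1 := by rw [t2, e1, mul_one]
  rw [eq_inv_of_mul_eq_one_left this, mul_inv_rev, inv_eq_of_mul_eq_one_right e,
    inv_eq_of_mul_eq_one_right e2]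

end Ac

end CF.Six
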