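import Cfsg.Agent.Six.C

/-! The centralizer of an involution is `Q.S₃`: the centre of a Sylow 2-subgroup. -/

set_option autoImplicit false
set_option linter.unusedSectionVars false

namespace CF.Six
open Subgroup CF.BG CF.CIT
open scoped commutatorElement
open Char.F3 (Tri mul_mem_of_relIndex_two)

variable {G : Type*} [Group G] [Finite G] {A B D K N Q R S T U V X Y : Subgroup G}
  {a b c g k q r s t u v x y z : G}

/-- `C(t) = Q.S₃` has characteristic two -/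
structure St (t x : G) (Q S : Subgroup G) : Prop extends Ac t x Q where
  syl : Syl 2 S ⊤
  lS : S ≤ 𝐂₁ t
  nQ : 𝐂₁ t ≤ 𝐍 Q
  i6 : Q.relIndex (𝐂₁ t) = 6
  i2 : Q.relIndex S = 2
  chr : 𝐂₁ t ⊓ 𝐂 Q ≤ Q

namespace St
variable (m : St t x Q S)
include m

theorem QS : Q ≤ S := (m.syl.of_le m.lS le_top).le_of_normal ⟨m.le, m.nQ⟩ m.pi
theorem nS : Q ⊴ S := ⟨m.QS, m.lS.trans m.nQ⟩
theorem cS : ♯Q * 2 = ♯S := m.i2 ▸ card_mul_relIndex m.QS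
theorem cH : ♯Q * 6 = ♯(𝐂₁ t) := m.i6 ▸ card_mul_relIndex m.le
theorem xH : zpowers x ≤ 𝐂₁ t := zpowers_le.2 (mem_cent1.2 m.c)
theorem cm' (hg : g ∈ S) : g * t = t * g := mem_cent1.1 (m.lS hg)

theorem exu : ∃ u ∈ S, u ∉ Q := SetLike.not_le_iff_exists.1 fun l => by
  have := m.i2; rw [relIndex_eq_one.2 l] at this; omega

theorem nX : 𝐂₁ t ≤ 𝐍 (Q ⊔ zpowers x) := by
  have l := sup_le m.le m.xH
  have := card_mul_relIndex l
  rw [card_sup_of_inf_bot (.inr (zpowers_le.2 m.n)) (m.pi.inf_eq_bot (odd3 m.o3)), card3 m.o3,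
    ← m.cH, mul_assoc] at this
  exact norm_idx2 l (by have := Nat.eq_of_mul_eq_mul_left (card_pos' _) this; omega)

theorem cjx (hg : g ∈ 𝐂₁ t) : ∃ q ∈ Q, g * x * g⁻¹ = q * x ∨ g * x * g⁻¹ = q * x⁻¹ := by
  obtain ⟨q, hq, z, hz, e⟩ := (mem_sup_norm' (zpowers_le.2 m.n)).1
    (conj_mem_of_norm (m.nX hg) (mem_sup_right (mem_zpowers x)))
  rcases (Char.F3.mem_zpowers3 m.o3).1 hz with rfl | rfl | rfl
  · rw [mul_one] at e
    have := orderOf_dvd_card' hq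
    rw [e, orderOf_conj', m.o3] at this
    exact absurd this (nd3 m.pi)
  exacts [⟨q, hq, .inl e.symm⟩, ⟨q, hq, .inr e.symm⟩]

variable (h : Hy G)
include h

theorem mod1 : ♯S % 3 = 1 := by have := m.cS; have := m.mod h; omega

theorem cju (hu : u ∈ S) (h1 : u ∉ Q) : ∃ q ∈ Q, u * x * u⁻¹ = q * x⁻¹ := by
  obtain ⟨q, hq, e | e⟩ := m.cjx (m.lS hu)
  swap; · exact ⟨q, hq, e⟩
  have n : x⁻¹ ∈ 𝐍 S := mem_norm_of_cj_le (by
    rintro _ ⟨g, hg, rfl⟩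
    change x⁻¹ * g * x⁻¹⁻¹ ∈ S
    by_cases k : g ∈ Q
    · exact m.QS (m.inv.cj k)
    have e1 : x⁻¹ * g * x⁻¹⁻¹ = x⁻¹ * (g * u⁻¹ * q) * x⁻¹⁻¹ * u := by
      calc _ = x⁻¹ * g * u⁻¹ * (u * x * u⁻¹) * u := by group
        _ = _ := by rw [e]; group
    rw [e1]
    exact mul_mem (m.QS (m.inv.cj (mul_mem (mul_mem_of_relIndex_two m.i2 hg (inv_mem hu) k
      (by simpa using h1)) hq))) hu)
  have := h.mod2 m.syl.pi m.inv.o3 n (m.QS m.mem) m.o2 m.inv.c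
  have := m.mod1 h
  omega

theorem two (ha : orderOf a = 2) (l : K ≤ 𝐂₁ a) (h3 : ¬ 3 ∣ ♯K) : PiGrp {2} K := by
  obtain ⟨g, rfl⟩ := h.cj _ _ m.o2 ha
  have := card_dvd l
  rw [← cj_cent1, card_cj, ← m.cH, show ♯Q * 6 = 3 * (♯Q * 2) by ring, m.cS] at this
  exact m.syl.pi.dvd ((Nat.Coprime.symm ((Nat.Prime.coprime_iff_not_dvd p3).2 h3)).dvd_of_dvd_mul_left this)

theorem ord (ha : orderOf a = 2) (c : k * a = a * k) (o : PiElt {2}ᶜ k) (k1 : k ≠ 1) :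
    orderOf k = 3 := by
  by_cases h3 : 3 ∣ ♯(zpowers k)
  · obtain ⟨r, hr, o3⟩ := exists_mem_orderOf_eq p3 h3
    have := h.odd ha o3 (mem_cent1.1 (zpowers_le.2 (mem_cent1.2 c) hr)) o c
      ((abel_zpowers k).mul_comm (mem_zpowers k) hr)
    rw [← Nat.card_zpowers, zp_eq this o3 k1, card3 o3]
  · exact absurd (PiElt.eq_one ((m.two h ha (zpowers_le.2 (mem_cent1.2 c)) h3).elt
      (mem_zpowers k)) o) k1

theorem fpf (o : PiElt {2}ᶜ k) (k1 : k ≠ 1) (n : k ∈ 𝐍 S) : S ⊓ 𝐂₁ k = ⊥ := by_contra fun h1 => by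
  obtain ⟨a, ha, oa, c⟩ := exists_inv_comm m.syl.pi h1
  have := h.mod2 m.syl.pi (m.ord h oa c o k1) n ha oa c
  have := m.mod1 h
  omega

omit h in
theorem nY : 𝐂₁ t ≤ 𝐍 (𝛀 2 (𝐙 Q)) := le_norm_Om 2 (m.nQ.trans (norm_center Q))
omit h in
theorem YQ : 𝛀 2 (𝐙 Q) ≤ Q := (Om_le _ _).trans inf_le_left
omit h in
theorem Yc : Q ≤ 𝐂 (𝛀 2 (𝐙 Q)) := cent_symm ((Om_le _ _).trans inf_le_right)
omit h in
theorem Ye : Abelem 2 (𝛀 2 (𝐙 Q)) := m.pi.abelem_Om_center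

omit h in
theorem nW : ⁅𝛀 2 (𝐙 Q), zpowers x⁆ ⊴ S := by
  have l := comm_le_left (m.xH.trans m.nY)
  have : ⁅𝛀 2 (𝐙 Q), Q ⊔ zpowers x⁆ = ⁅𝛀 2 (𝐙 Q), zpowers x⁆ := le_antisymm
    (comm_sup_le' (by rw [comm_eq_bot'.2 m.Yc]; exact bot_le) le_rfl
      (norm_of_cent (cent_mono m.Yc le_rfl l)) (norm_comm_right _ _))
    (commutator_mono le_rfl le_sup_right)
  exact ⟨l.trans (m.YQ.trans m.QS), this ▸ m.lS.trans (norm_commutator m.nY m.nX)⟩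

omit h in
theorem tW : t ∉ ⁅𝛀 2 (𝐙 Q), zpowers x⁆ := fun k => ne2 m.o2 (eq_one_of_mem_bot
  (m.Ye.abel.comm_inf_cent (m.xH.trans m.nY) (cop3 m.o3 m.Ye.pi))
  ⟨k, by rw [cent_zpowers]; exact mem_cent1.2 m.c.symm⟩)

theorem tZ : t ∉ ⁅𝛀 2 (𝐙 Q), S⁆ := fun k => m.tW (by
  have d := (m.Ye.abel.dprod_cent_comm (m.xH.trans m.nY) (cop3 m.o3 m.Ye.pi)).sup
  have l : 𝛀 2 (𝐙 Q) ⊓ 𝐂 (zpowers x) ≤ 𝐙 S := by
    rw [cent_zpowers]
    refine (inf_le_inf_right _ m.YQ).trans ?_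
    rw [m.cent h, zpowers_le]
    exact ⟨m.QS m.mem, fun g hg => m.cm' hg⟩
  refine (commutator_mono d.ge le_rfl).trans (comm_sup_le ?_ (comm_le_left m.nW.norm)
    ((l.trans inf_le_left).trans m.nW.norm) (le_norm_self _)) k
  rw [comm_eq_bot.2 (l.trans inf_le_right)]; exact bot_le)

theorem cZ (hc : c ∈ S) (c2 : c * c = 1) (e : ∀ g ∈ S, g * c = c * g) :
    c ∈ ⁅𝛀 2 (𝐙 Q), S⁆ ∨ c * t ∈ ⁅𝛀 2 (𝐙 Q), S⁆ := by
  have cQ : c ∈ Q := m.chr ⟨m.lS hc, fun g hg => e g (m.QS hg)⟩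
  have cY : c ∈ 𝛀 2 (𝐙 Q) := mem_Om ⟨cQ, fun g hg => e g (m.QS hg)⟩ (by rw [sq, c2])
  obtain ⟨u, hu, u1⟩ := m.exu
  obtain ⟨q, hq, e1⟩ := m.cju h hu u1
  have n := m.nY (mem_cent1.2 m.c)
  have w := conj_mem_of_norm n cY
  have e2 : u * (x * c * x⁻¹) * u⁻¹ = x⁻¹ * c * x := by
    calc _ = u * x * u⁻¹ * (u * c) * u⁻¹ * (u * x * u⁻¹)⁻¹ := by group
      _ = q * (x⁻¹ * c * x) * q⁻¹ := by rw [e1, e u hu]; group
      _ = _ := by rw [← m.Yc hq _ (conj_mem_of_norm' n cY)]; group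
  have k := commutator_mem_commutator w hu
  have nr := m.nrm h cQ
  rw [← e2, mul_assoc c, mem2 m.o2] at nr
  have e3 : ⁅x * c * x⁻¹, u⁆ = x * c * x⁻¹ * (u * (x * c * x⁻¹) * u⁻¹) := by
    rw [commutatorElement_def, inv_of_abelem m.Ye w]; group
  rw [e3] at k
  rcases nr with nr | nr
  · exact .inl (eq_inv_of_mul_eq_one_left nr ▸ inv_mem k)
  · rw [eq_inv_mul_of_mul_eq nr, inv_eq_of_mul_eq_one_right c2] at k
    exact .inr k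

theorem key (o : PiElt {2}ᶜ k) (k1 : k ≠ 1) (n : k ∈ 𝐍 S) :
    BG.cj k ⁅𝛀 2 (𝐙 Q), S⁆ ≤ zpowers t := by
  have f := m.fpf h o k1 n
  have e0 := cj_of_norm n
  have i : (BG.cj k Q).relIndex S = 2 := by
    have := card_mul_relIndex (cj_le_of_norm n m.QS)
    rw [card_cj, ← m.cS] at this
    exact Nat.eq_of_mul_eq_mul_left (card_pos' _) this
  obtain ⟨w, hw, w1⟩ : ∃ w ∈ Q, w ∉ BG.cj k Q := SetLike.not_le_iff_exists.1 fun l => by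
    have n' := cj_eq_self.1 (eq_of_card_eq l (card_cj _ _).symm).symm
    obtain ⟨u, hu, u1⟩ := m.exu
    refine u1 (Coprime.fpf_mem_of_comm_mem f m.QS n' hu (mul_mem_of_relIndex_two m.i2 (inv_mem hu)
      (conj_mem_of_norm n hu) (by simpa using u1) (by rwa [← mem_norm.1 n'])))
  have c' : BG.cj k Q ≤ 𝐂 (BG.cj k (𝛀 2 (𝐙 Q))) := cj_cent k _ ▸ cj_mono k m.Yc
  have l' : BG.cj k (𝛀 2 (𝐙 Q)) ≤ S := cj_le_of_norm n (m.YQ.trans m.QS)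
  have ZS : ⁅𝛀 2 (𝐙 Q), S⁆ ≤ S := comm_le_right (norm_of_le (m.YQ.trans m.QS))
  have F : ∀ {Q Y : Subgroup G} {v y g : G}, Q.relIndex S = 2 → Q ≤ 𝐂 Y → v ∈ S → v ∉ Q → y ∈ Y →
      g ∈ S → ⁅y, g⁆ = 1 ∨ ⁅y, g⁆ = ⁅y, v⁆ := fun {Q Y v y g} i c hv v1 hy hg => by
    by_cases e : g ∈ Q
    · exact .inl (commutatorElement_eq_one_iff_mul_comm.2 (c e y hy))
    have := c (mul_mem_of_relIndex_two i (inv_mem hv) hg (by simpa using v1) e) _ (inv_mem hy)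
    refine .inr ?_
    calc _ = y * v * (v⁻¹ * g * y⁻¹) * g⁻¹ := by group
      _ = _ := by rw [← this]; group
  have l : BG.cj k (𝛀 2 (𝐙 Q)) ≤ Q := fun v hv => by_contra fun v1 => by
    have : ⁅𝛀 2 (𝐙 Q), S⁆ ≤ BG.cj k ⁅𝛀 2 (𝐙 Q), S⁆ := by
      rw [cj_comm, e0, commutator_le]
      intro y hy g hg
      rcases F m.i2 m.Yc (l' hv) v1 hy hg with e | e <;> rw [e]
      · exact one_mem _
      · rw [← commutatorElement_inv]
        exact inv_mem (commutator_mem_commutator hv (m.QS (m.YQ hy)))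
    have n' := cj_eq_self.1 (eq_of_card_eq this (card_cj _ _).symm).symm
    have tS := m.QS m.mem
    have cz : ∀ g ∈ S, g * (k * t * k⁻¹) = k * t * k⁻¹ * g := fun g hg => by
      calc _ = k * (k⁻¹ * g * k * t) * k⁻¹ := by group
        _ = _ := by rw [m.cm' (conj_mem_of_norm' n hg)]; group
    rcases m.cZ h (conj_mem_of_norm n tS) (sq2 (by rw [orderOf_conj', m.o2])) cz with e | e
    · exact m.tZ h ((mem_norm.1 n' t).2 e)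
    · exact m.tZ h (Coprime.fpf_mem_of_comm_mem f ZS n' tS (by rwa [inv2 m.o2, cz t tS]))
  rw [cj_comm, e0, commutator_le]
  intro y hy g hg
  rcases F i c' (m.QS hw) w1 hy hg with e | e <;> rw [e]
  · exact one_mem _
  have := m.idx2 h (l hy) (D := BG.cj k Q) (i ▸ relIndex_le_of_le_right m.QS (by omega))
    (fun g hg _ => .inl (by rw [← c' hg y hy, mul_inv_cancel_right])) hw
  have e1 : ⁅y, w⁆ = y * (w * y * w⁻¹)⁻¹ := by group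
  rw [e1]
  rcases this with e | e <;> rw [e]
  · simp
  · rw [m.cm (l hy)]; simp

theorem uq (hc : c ∈ S) (o : orderOf c = 2) (e : ∀ g ∈ S, g * c = c * g) : c = t := by
  by_contra ne
  obtain ⟨g, e1⟩ := h.cj _ _ m.o2 o
  obtain ⟨n, hn, e1⟩ := fuse m.syl (fun g hg => m.cm' hg) e e1
  obtain ⟨y, k, hy, hk, py, pk, rfl⟩ := exists_piPart {2} n
  have yS := m.syl.mem_of_norm trivial (zpowers_le.2 hn hy) py
  have kn := zpowers_le.2 hn hk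
  have k1 : k ≠ 1 := by
    rintro rfl
    exact ne (by rw [← e1, mul_one, m.cm' yS, mul_inv_cancel_right])
  obtain ⟨d, hd, d1⟩ : ∃ d ∈ ⁅𝛀 2 (𝐙 Q), S⁆, d ≠ 1 := (m.cZ h hc (sq2 o) e).elim
    (fun k => ⟨_, k, ne2 o⟩) fun k => ⟨_, k, fun e => ne ((eq_inv_of_mul_eq_one_left e).trans (inv2 m.o2))⟩
  have F : ∀ {k}, PiElt {2}ᶜ k → k ≠ 1 → k ∈ 𝐍 S → k * d * k⁻¹ = t := fun o k1 n =>
    ((mem2 m.o2).1 (m.key h o k1 n (conj_mem_cj.2 hd))).resolve_left (by simpa using d1)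
  have f1 := F pk k1 kn
  have f2 := F pk.inv (inv_ne_one.2 k1) (inv_mem kn)
  refine d1 (eq_one_of_mem_bot (m.fpf h (pk.mul pk rfl) (fun e => k1 ((piElt_of_sq e).eq_one pk))
    (mul_mem kn kn)) ⟨comm_le_right (norm_of_le (m.YQ.trans m.QS)) hd, mem_cent1.2 ?_⟩)
  calc _ = k * (k⁻¹ * d * k⁻¹⁻¹) * k := by group
    _ = _ := by rw [f2, ← f1]; group

theorem ctr (hc : c ∈ Q) (e : c ∈ 𝐂 Q) : c = 1 ∨ c = t := by
  have h1 : ⁅𝛀 2 (𝐙 Q), zpowers x⁆ = ⊥ := by_contra fun h1 => by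
    obtain ⟨c, hc, o, e⟩ := exists_zinv m.syl.pi m.nW h1
    exact m.tW (m.uq h (m.nW.le hc) o e ▸ hc)
  have := (center_abel Q).cent_of_Om m.pi.inf_left ((zpowers_le.2 m.n).trans (norm_center Q))
    (cop3 m.o3 m.pi.inf_left) (comm_eq_bot'.1 h1)
  rw [← mem2 m.o2, ← m.cent h]
  exact ⟨hc, mem_cent1.2 (this (mem_zpowers x) c ⟨hc, e⟩)⟩

theorem fo (hq : ∃ q ∈ Q, q * q = 1 ∧ q ≠ 1 ∧ q ≠ t) : ∃ s ∈ Q, Fo S t s := by
  obtain ⟨q, hq, q2, q1, qt⟩ := hq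
  rcases m.nf h m.syl.pi m.nS m.lS fun g hg => m.cjx (m.lS hg) with ⟨s, hs, os, ne, e⟩ | e
  · exact ⟨s, hs, m.syl, m.o2, m.QS m.mem, m.lS, fun c => m.uq h, m.QS hs, os, ne, e⟩
  · exact ((e q hq q2).elim q1 qt).elim

end St

end CF.Six
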