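import Cfsg.Agent.Six.D
import Cfsg.Agent.Classical.SmallIso

/-! The normalizer of a 2-group acted on by an element of order three fixing an involution. -/

set_option autoImplicit false
set_option linter.unusedSectionVars false

namespace CF.Six
open Subgroup CF.BG CF.CIT
open scoped commutatorElement
open Char.F3 (Tri H3 mul_mem_of_relIndex_two)

variable {G : Type*} [Group G] [Finite G] {A B D K N P Q R S T U V X Y : Subgroup G}
  {a b c g k q r s t u v x y z : G}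

/-- an element of order three normalizes a Sylow 2-subgroup -/
def TA (L : Subgroup G) : Prop := ∃ S r, Syl 2 S L ∧ orderOf r = 3 ∧ r ∈ L ∧ r ∈ 𝐍 S

theorem TA.lift {H : Type*} [Group H] [Finite H] {f : K →* H} (hf : Function.Surjective f)
    (k : IsPGroup 2 f.ker) (h : TA (⊤ : Subgroup H)) : TA K := by
  obtain ⟨S, r, hS, o, -, n⟩ := h
  obtain ⟨w, rfl⟩ := hf r
  obtain ⟨y, -, y3, c, hc, rfl⟩ := exists_cube (w := w) (K := f.ker)
    (by rw [MonoidHom.mem_ker, map_mul, map_mul, cu3 o]) (nd3 (piGrp_of_isPGroup p2 k))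
  have e : f (w * c) = f w := by rw [map_mul, hc, mul_one]
  refine ⟨(S.comap f).map K.subtype, ↑(w * c), ?_, ?_, (w * c).2, ?_⟩
  · have := (hall_map_iff K.subtype_injective).2 (syl_mk p2 (le_top (a := S.comap f))
      (piGrp_of_isPGroup p2 (hS.pi.isPGroup.comap_of_ker_isPGroup f k)) (by
        rw [relIndex_top_right, index_comap_of_surjective _ hf, ← relIndex_top_right]
        exact hS.not_dvd p2))
    rwa [← MonoidHom.range_eq_map, range_subtype] at this
  · rw [orderOf_coe]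
    exact ord3 y3 fun e' => ne3 o (by rw [← e, e', map_one])
  · exact map_norm (A := zpowers (w * c)) (zpowers_le.2 (le_normalizer_comap f (by
      rw [mem_comap, e]; exact n))) _ ⟨_, mem_zpowers _, rfl⟩

theorem ma {n : ℕ} (a b c d : Fin n) (h : a ≠ b) (k : c ≠ d) :
    Equiv.swap a b * Equiv.swap c d ∈ alternatingGroup (Fin n) := by
  simp [Equiv.Perm.mem_alternatingGroup, h, k]

/-- a product of two transpositions -/
def sw {n : ℕ} (a b c d : Fin n) (h : a ≠ b := by decide) (k : c ≠ d := by decide) :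
    alternatingGroup (Fin n) := ⟨_, ma a b c d h k⟩

theorem ta_A5 : TA (⊤ : Subgroup (alternatingGroup (Fin 5))) := by
  have T : Tri (sw 1 2 1 3 : alternatingGroup (Fin 5)) (sw 0 1 2 3) (sw 0 3 1 2) :=
    ⟨ord3 (by decide) (by decide), ord2 (by decide) (by decide), by decide, by decide⟩
  have c := T.klein.card_four
  generalize (sw 1 2 1 3 : alternatingGroup (Fin 5)) = r at *
  generalize (sw 0 1 2 3 : alternatingGroup (Fin 5)) = a at *
  generalize (sw 0 3 1 2 : alternatingGroup (Fin 5)) = b at *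
  have ha : a ∈ closure {a, b} := subset_closure (by simp)
  have hb : b ∈ closure {a, b} := subset_closure (by simp)
  refine ⟨closure {a, b}, r, syl_mk p2 le_top (piGrp_of_card (k := 2) p2 c) ?_, T.o3, trivial,
    mem_norm_of_cj_le ?_⟩
  · have := card_mul_relIndex (le_top (a := closure {a, b}))
    rw [c, card_top', nat_card_alternatingGroup, Nat.card_fin,
      show Nat.factorial 5 / 2 = 60 from rfl] at this
    omega
  · rw [BG.cj, MonoidHom.map_closure, closure_le]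
    rintro _ ⟨_, rfl | rfl, rfl⟩ <;> change r * _ * r⁻¹ ∈ _
    exacts [T.e1.symm ▸ hb, T.e2.symm ▸ mul_mem ha hb]

theorem Ac.h3 (m : Ac t x X) (h : Hy G) : H3 (Quo X) ∧ orderOf (qe X x) = 3 := by
  have n := zpowers_le.2 m.n
  have c : ♯(qt X (zpowers x)) = 3 := by
    rw [card_qt_of_inf_bot n (m.pi.inf_eq_bot (odd3 m.o3)), card3 m.o3]
  refine ⟨Char.F3.h3_of_card c (le_antisymm ?_ (qt_cent _ (abel_zpowers x))), by
    rwa [qt_zpowers m.n, Nat.card_zpowers] at c⟩
  have := qt_inf_cent' (H := 𝐍 X) n (n.trans (le_norm_self _)) (cop3 m.o3 m.pi) (.inr m.pi.sol)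
  rw [qt_norm_eq_top, top_inf_eq] at this
  have e : zpowers t ⊔ zpowers x = 𝐂₁ t ⊓ 𝐂₁ x := eq_of_card_eq (sup_le
    (zpowers_le.2 ⟨self_mem_cent1 t, mem_cent1.2 m.c.symm⟩)
    (zpowers_le.2 ⟨mem_cent1.2 m.c, self_mem_cent1 x⟩)) (by
      rw [card_sup_of_inf_bot (.inr (zpowers_le.2 (cn m.c))) ((pi2 m.o2).inf_eq_bot (odd3 m.o3)),
        card2 m.o2, card3 m.o3, h.f2 t x m.o2 m.o3 m.c])
  rw [← this, qt_le_qt_iff inf_le_left n, cent_zpowers]
  refine le_trans (fun g hg => ?_) (e.ge.trans (sup_le_sup_right (zpowers_le.2 m.mem) _))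
  refine ⟨norm_zp m.o2 ▸ ?_, hg.2⟩
  rw [← m.cent h]
  exact norm_inf (A := zpowers g) (zpowers_le.2 hg.1) (norm_of_le (zpowers_le.2 hg.2)) (mem_zpowers g)

theorem Ac.tri (m : Ac t x X) (h : Hy G) :
    (∃ R N, Syl 2 R N ∧ R ⊴ 𝐍 X ∧ N ⊴ 𝐍 X ∧ X ≤ R ∧ Nil (qt X N) ∧ ¬ 3 ∣ ♯N ∧
      N.relIndex (𝐍 X) = 6) ∨ TA (𝐍 X) ∨ IsSimpleGroup (Quo X) ∧ Nat.card (Quo X) = 168 := by
  obtain ⟨H, o⟩ := m.h3 h
  rcases H.main o with ⟨N, n, nil, c, e⟩ | ⟨N, n, -, e, ⟨f⟩⟩ | ⟨⟨e⟩⟩
  · have n' := normalIn_top.2 n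
    have F : ∀ {Y}, Y ⊴ ⊤ → qp X Y ⊴ 𝐍 X := fun k =>
      NormalIn.qp_of_qt (by rwa [qt_norm_eq_top]) (normalIn_norm X)
    have s : Syl 2 (qp X (𝐎 {2} N)) (qp X N) := ⟨qp_mono (O_le _ _), by
      rw [PiGrp, card_qp]; exact m.pi.mul (O_pi _ _), by
      rw [relIndex_qp_qp]; exact (Nil.hall_O nil _).idx⟩
    have i : (qp X N).relIndex (𝐍 X) = Nat.card (Quo X ⧸ N) := by
      rw [relIndex_qp_left _ le_rfl, qt_norm_eq_top, relIndex_top_right, index_eq_card]
    rcases e with e | ⟨⟨e⟩⟩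
    · exact .inr (.inl ⟨_, x, s.trans_idx (F n').le (by
        rw [i, e]; exact (piNat_self p3).to_compl_single (by simp)), m.o3, m.n, (F (n'.O _)).norm m.n⟩)
    · refine .inl ⟨_, _, s, F (n'.O _), F n', le_qp _, by rwa [qt_qp], ?_, by
        rw [i, Nat.card_congr e.toEquiv, Nat.card_perm, Nat.card_fin]; rfl⟩
      rw [card_qp, p3.dvd_mul, not_or]
      exact ⟨nd3 m.pi, (Nat.Prime.coprime_iff_not_dvd p3).1 c.symm⟩
  · refine .inr (.inl (ta_A5.lift (f := ((f : _ →* _).comp (QuotientGroup.mk' N)).comp (qmk X))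
      ((f.surjective.comp (QuotientGroup.mk'_surjective N)).comp (qmk_surj X)) ?_))
    rw [← MonoidHom.comap_ker, MonoidHom.ker_mulEquiv_comp, QuotientGroup.ker_mk']
    refine IsPGroup.comap_of_ker_isPGroup (fun g => ⟨1, Subtype.ext (e g g.2)⟩) _ ?_
    rw [qmk_ker]
    exact m.pi.isPGroup.comap_subtype
  · haveI : Fact (Nat.Prime 7) := ⟨by norm_num⟩
    haveI := Classical.isSimpleGroup_PSL2 (F := ZMod 7) (by simp)
    exact .inr (.inr ⟨e.isSimpleGroup, (Nat.card_congr e.toEquiv).trans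
      (Classical.card_PSL2_of_card (Nat.card_zmod 7) (by norm_num))⟩)

end CF.Six
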