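import Cfsg.Agent.Six.E
import Cfsg.Agent.Gold3.Main
import Cfsg.Agent.Ab2.Tr

/-! The centralizer of an involution is `Q.S₃`: the order of `Q`. -/

set_option autoImplicit false
set_option linter.unusedSectionVars false

namespace CF.Six
open Subgroup CF.BG CF.CIT
open scoped commutatorElement
open Char.F3 (Tri H3 mul_mem_of_relIndex_two)

variable {G : Type*} [Group G] [Finite G] {A B D K L N P Q R S T U V X Y : Subgroup G}
  {a b c g k q r s t u v x y z : G}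

theorem mid {p : ℕ} (hp : p.Prime) (i : T.relIndex S = p) (l1 : T ≤ K) (l2 : K ≤ S) :
    K = T ∨ K = S := by
  have := relIndex_mul_relIndex T K S l1 l2
  rw [i] at this
  rcases hp.eq_one_or_self_of_dvd _ (Dvd.intro _ this) with e | e
  · exact .inl (le_antisymm (relIndex_eq_one.1 e) l1)
  · rw [e] at this
    exact .inr (le_antisymm l2 (relIndex_eq_one.1 (by simpa [hp.ne_zero] using this)))

theorem TA.ex (h : TA L) (s : Syl 2 S L) : ∃ r, orderOf r = 3 ∧ r ∈ L ∧ r ∈ 𝐍 S := by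
  obtain ⟨S', r, s', o, m, n⟩ := h
  obtain ⟨g, hg, rfl⟩ := s'.syl_conj s
  exact ⟨g * r * g⁻¹, by rw [orderOf_conj', o], mul_mem (mul_mem hg m) (inv_mem hg),
    cj_norm g S' ▸ conj_mem_cj.2 n⟩

theorem sq_idx (e : Abelem 2 V) (l : A ≤ B) (i : A.relIndex B ≤ 2) (n : B ≤ 𝐍 V) :
    ♯(V ⊓ 𝐂 A) ≤ ♯(V ⊓ 𝐂 B) ^ 2 := by
  by_cases k : B ≤ A
  · rw [le_antisymm l k]; exact Nat.le_self_pow two_ne_zero _
  obtain ⟨g, hg, g1⟩ := SetLike.not_le_iff_exists.1 k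
  have i2 : A.relIndex B = 2 := by
    have := relIndex_pos A B
    have : A.relIndex B ≠ 1 := fun e => k (relIndex_eq_one.1 e)
    omega
  have e' := e.le (inf_le_left (b := 𝐂 A))
  refine (Ab2.card_le_sq e'.abel (norm_inf_cent n (norm_idx2 l i2) hg) e' (cent_symm inf_le_right
    (mul_mem_of_relIndex_two i2 hg hg g1 g1))).trans (Nat.pow_le_pow_left (card_le ?_) 2)
  refine fun v hv => ⟨hv.1.1, fun b hb => ?_⟩
  by_cases j : b ∈ A
  · exact hv.1.2 b j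
  have := hv.1.2 _ (mul_mem_of_relIndex_two i2 (inv_mem hg) hb (by simpa using g1) j)
  calc b * v = g * (g⁻¹ * b * v) := by group
    _ = g * v * g⁻¹ * b := by rw [this]; group
    _ = _ := by rw [← mem_cent1.1 hv.2]; group

theorem idx_six (sy : Syl 2 S L) (sR : Syl 2 R N) (nR : R ⊴ L) (nN : N ⊴ L)
    (i : N.relIndex L = 6) : R.relIndex S ≤ 2 := by
  have e1 : N ⊓ S = R := sR.eq_of_normal (nN.le.trans nR.norm) (sy.normal_inf nN)
  have d : N.relIndex S ∣ 2 * 3 := (relIndex_dvd_of_norm sy.le nN.norm).trans i.dvd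
  rw [← e1, inf_relIndex_right]
  exact Nat.le_of_dvd two_pos ((PiNat.coprime (sy.pi.dvd (relIndex_dvd_card N S))
    ((piNat_self p3).to_compl_single (by simp))).dvd_of_dvd_mul_right d)

theorem w_of (s : Syl 2 S ⊤) (e : A ⊓ B = S) (i : (𝐎 {2} A).relIndex A = 6) : Gold3.W A B := by
  haveI := Fact.mk p2
  have := s.of_le (e.ge.trans inf_le_left) le_top
  exact ⟨inferInstance, e ▸ Loc.isSyl_iff_not_dvd_relIndex.2 ⟨this.le, this.pi.isPGroup,
    this.not_dvd p2⟩, by rwa [← map_pCore p2] at i⟩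

namespace Fo
variable (f : Fo S t s)
include f

theorem core (h : Hy G) (n : T ⊴ P) (i : T.relIndex S = 2) (l : S ≤ P) (l' : T ≤ S)
    (hr : orderOf r = 3) (m : r ∈ P) : 𝐎 {2} P = T :=
  (mid p2 i (le_O n (f.syl.pi.le l')) (f.syl.of_le l le_top).O_le).resolve_right fun e =>
    f.not_norm h hr (e ▸ (O_normal _ _).norm m)

theorem cjU (hg : g ∈ 𝐍 (S ⊓ 𝐂₁ s)) (hc : c ∈ S ⊓ 𝐂₁ s) (c2 : c * c = 1)
    (e : S ⊓ 𝐂₁ s ≤ 𝐂₁ c) : g * c * g⁻¹ = 1 ∨ g * c * g⁻¹ = t ∨ g * c * g⁻¹ = s ∨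
      g * c * g⁻¹ = s * t := by
  refine f.ctr (conj_mem_of_norm hg hc) ?_ fun a ha => ?_
  · calc _ = g * (c * c) * g⁻¹ := by group
      _ = 1 := by rw [c2]; group
  · calc _ = g * (g⁻¹ * a * g * c) * g⁻¹ := by group
      _ = _ := by rw [mem_cent1.1 (e (conj_mem_of_norm' hg ha))]; group

end Fo

namespace St
variable (m : St t x Q S) (h : Hy G)
include m h

theorem b168 (e : Abelem 2 V) (l : V ≤ Q) (n : 𝐂₁ t ≤ 𝐍 V) (c : Nat.card (Quo V) = 168) :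
    ♯Q ≤ 64 := by
  have nQ := m.le.trans n
  have i : V.relIndex Q ∣ 4 := by
    have h1 := relIndex_mul_relIndex V Q _ l nQ
    have h2 := relIndex_mul_relIndex Q _ _ m.le n
    rw [← h2, m.i6, ← card_qt le_rfl, qt_norm_eq_top, card_top', c] at h1
    have d : V.relIndex Q ∣ 4 * 7 := Dvd.intro ((𝐂₁ t).relIndex (𝐍 V)) (by nlinarith)
    exact (PiNat.coprime (m.pi.dvd (relIndex_dvd_card V Q)) ((piNat_self (p := 7)
      (by norm_num)).to_compl_single (by simp))).dvd_of_dvd_mul_right d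
  obtain ⟨L, l1, l2, i1, i2⟩ : ∃ L, V ≤ L ∧ L ≤ Q ∧ V.relIndex L ≤ 2 ∧ L.relIndex Q ≤ 2 := by
    by_cases k : V.relIndex Q ≤ 2
    · exact ⟨V, le_rfl, l, by simp, k⟩
    have k4 : V.relIndex Q = 4 := by
      have := Nat.le_of_dvd (by decide) i
      have : V.relIndex Q ≠ 3 := fun e => by rw [e] at i; exact absurd i (by decide)
      omega
    obtain ⟨Y, hY, cY⟩ := exists_card_eq_prime (H := qt V Q) p2 (by rw [card_qt nQ, k4]; decide)
    have l2 := qp_le_of_le_qt ⟨l, nQ⟩ hY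
    have := relIndex_mul_relIndex V _ Q (le_qp Y) l2
    rw [relIndex_qp, cY, k4] at this
    exact ⟨_, le_qp Y, l2, by rw [relIndex_qp, cY], by omega⟩
  have h1 := sq_idx e l1 i1 (l2.trans nQ)
  have h2 := sq_idx e l2 i2 nQ
  have h3 : ♯(V ⊓ 𝐂 Q) ≤ 2 := card2 m.o2 ▸ card_le fun c hc => (mem2 m.o2).2 (m.ctr h (l hc.1) hc.2)
  rw [inf_eq_left.2 e.abel] at h1
  have h4 := card_mul_relIndex l
  have h5 := Nat.le_of_dvd (by decide) i
  have h6 := h2.trans (Nat.pow_le_pow_left h3 2)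
  have h7 := h1.trans (Nat.pow_le_pow_left h6 2)
  nlinarith

theorem bound (hs : s ∈ Q) (f : Fo S t s) : ♯Q ≤ 64 := by
  obtain ⟨y, hy, T⟩ := f.tri h
  have SP := norm_idx2 inf_le_left f.idx
  have xH : x ∈ 𝐂₁ t := mem_cent1.2 m.c
  have i3 : S.relIndex (𝐂₁ t) = 3 := by
    have := relIndex_mul_relIndex Q S _ m.QS m.lS
    rw [m.i2, m.i6] at this
    omega
  have e : 𝐂₁ t ⊓ 𝐍 (S ⊓ 𝐂₁ s) = S := (mid p3 i3 (le_inf m.lS SP) inf_le_left).resolve_right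
    fun e => f.other h m.toAc hs (f.cjU (e.ge xH).2 f.sT (sq2 f.os) inf_le_right)
  have j3 : S.relIndex (𝐍 (S ⊓ 𝐂₁ s)) = 3 := by
    have h1 := relIndex_le_ncard (T := 𝐍 (S ⊓ 𝐂₁ s)) (v := t) (S := {t, s, s * t}) fun g hg =>
      (f.cjU hg f.tT (sq2 m.o2) (inf_le_left.trans m.lS)).resolve_left
        fun e => ne2 m.o2 (by simpa using e)
    have h2 : ({t, s, s * t} : Set G).ncard ≤ 3 := (Set.ncard_insert_le _ _).trans
      (Nat.succ_le_succ (Set.ncard_insert_le _ _ |>.trans (by simp)))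
    have h3 := T.o3 ▸ orderOf_dvd_card' hy
    rw [← inf_relIndex_right, e] at h1
    rw [← card_mul_relIndex SP, p3.dvd_mul] at h3
    have := Nat.le_of_dvd (relIndex_pos _ _) (h3.resolve_left (nd3 m.syl.pi))
    omega
  have oH := f.core h ⟨m.le, m.nQ⟩ m.i2 m.lS m.QS m.o3 xH
  have oP := f.core h (normalIn_norm _) f.idx SP inf_le_left T.o3 hy
  by_cases no : ∀ X ≤ 𝐂₁ t ⊓ 𝐍 (S ⊓ 𝐂₁ s), 𝐂₁ t ≤ 𝐍 X → 𝐍 (S ⊓ 𝐂₁ s) ≤ 𝐍 X → X = ⊥
  · have := Gold3.WA.bound ⟨w_of m.syl e (by rw [oH, m.i6]), w_of m.syl ((inf_comm _ _).trans e) (by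
      rw [oP, ← relIndex_mul_relIndex _ S _ inf_le_left SP, f.idx, j3]), no⟩
    rw [e, ← m.cS] at this
    omega
  push Not at no
  obtain ⟨X, l, n1, n2, X1⟩ := no
  rw [e] at l
  have kX := m.syl.pi.le l
  have nV : 𝐍 X ≤ 𝐍 (𝛀 2 (𝐙 X)) := le_norm_Om 2 (norm_center X)
  have lV : 𝛀 2 (𝐙 X) ≤ S := (Om_le _ _).trans (inf_le_left.trans l)
  have V1 := kX.inf_left.Om_ne_bot (kX.center_ne_bot X1)
  have eV := kX.abelem_Om_center
  replace n1 := n1.trans nV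
  replace n2 := n2.trans nV
  generalize 𝛀 2 (𝐙 X) = V at *
  have F : ∀ {R}, R ≤ S → PiGrp {2} R → 𝐂₁ t ≤ 𝐍 R → R ≤ Q := fun l k n =>
    oH ▸ le_O ⟨l.trans m.lS, n⟩ k
  obtain ⟨c, hc, oc, cc⟩ := exists_zinv m.syl.pi ⟨lV, m.lS.trans n1⟩ V1
  obtain rfl := m.uq h (lV hc) oc cc
  have sy := m.syl.of_le (m.lS.trans n1) le_top
  rcases (m.mono (F lV eV.pi n1) hc (n1 xH)).tri h with ⟨R, N, sR, nR, nN, -, -, -, i⟩ | ta | ⟨-, c⟩
  · have RS := sy.le_of_normal nR sR.pi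
    have RQ := F RS sR.pi (n1.trans nR.norm)
    have RT : R ≤ S ⊓ 𝐂₁ s := oP ▸ le_O ⟨RS.trans SP, n2.trans nR.norm⟩ sR.pi
    have d := idx_six sy sR nR nN i
    rw [← relIndex_mul_relIndex R Q S RQ m.QS, m.i2] at d
    have := relIndex_pos R Q
    have QR := relIndex_eq_one.1 (show R.relIndex Q = 1 by omega)
    exact ((m.ctr h hs (le_cent1_iff.1 (QR.trans (RT.trans inf_le_right)))).elim (ne2 f.os)
      f.ne).elim
  · obtain ⟨r, o, -, n⟩ := ta.ex sy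
    exact absurd n (f.not_norm h o)
  · exact m.b168 h eV (F lV eV.pi n1) n1 c

end St

end CF.Six
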