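import Cfsg.Agent.Six.F
import Cfsg.Agent.W2.T1
import Cfsg.Agent.W2.T2

/-! The centralizer of an involution is `Q.S₃`: `Q` has only one involution. -/

set_option autoImplicit false
set_option linter.unusedSectionVars false

namespace CF.Six
open Subgroup CF.BG CF.CIT
open scoped commutatorElement

variable {G : Type*} [Group G] [Finite G] {A B D K L N P Q R S T U V X Y : Subgroup G}
  {a b c g k q r s t u v x y z : G}

theorem dbl (h : A < B) : 2 * ♯A ≤ ♯B := by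
  have := card_mul_relIndex h.le
  have h1 := relIndex_pos A B
  have h2 : A.relIndex B ≠ 1 := fun e => h.not_ge (relIndex_eq_one.1 e)
  nlinarith [card_pos' A, show 2 ≤ A.relIndex B by omega]

theorem Hy.not_of (h : Hy G) {H : Type*} [Group H] (e : G ≃* H) (a r g : H)
    (k : a * a = 1 ∧ a ≠ 1 ∧ r * r * r = 1 ∧ r ≠ 1 ∧ r * a = a * r ∧ g * g = 1 ∧ g * a = a * g ∧
      g * r = r * g ∧ g ≠ 1 ∧ g ≠ a) : False := by
  obtain ⟨a, rfl⟩ := e.surjective a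
  obtain ⟨r, rfl⟩ := e.surjective r
  obtain ⟨g, rfl⟩ := e.surjective g
  simp only [← map_mul, Ne, e.map_eq_one_iff, e.injective.eq_iff] at k
  obtain ⟨k1, k2, k3, k4, k5, k6, k7, k8, k9, k0⟩ := k
  exact (h.two (ord2 k1 k2) (ord3 k3 k4) k5 (piElt_of_sq k6) k7 k8).elim k9 k0

theorem Hy.not_A7 (h : Hy G) (e : G ≃* alternatingGroup (Fin 7)) : False :=
  h.not_of e (sw 0 1 2 3) (sw 4 5 4 6) (sw 0 2 1 3) (by decide)
theorem Hy.not_A8 (h : Hy G) (e : G ≃* alternatingGroup (Fin 8)) : False :=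
  h.not_of e (sw 0 1 2 3) (sw 4 5 4 6) (sw 0 2 1 3) (by decide)
theorem Hy.not_A9 (h : Hy G) (e : G ≃* alternatingGroup (Fin 9)) : False :=
  h.not_of e (sw 0 1 2 3) (sw 4 5 4 6) (sw 0 2 1 3) (by decide)

namespace St
variable (m : St t x Q S) (h : Hy G)
include m h

theorem ex (hs : s ∈ Q) (f : Fo S t s) : ♯Q = 32 ∧ LX.EX Q t := by
  have aQ := m.cj hs
  have o := f.other h m.toAc hs
  have tQ := zpowers_le.2 m.mem
  have s1 : s ∉ zpowers t := fun k => ((mem2 m.o2).1 k).elim (ne2 f.os) f.ne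
  have c32 : ♯Q = 32 := by
    have l : zpowers t ⊔ zpowers s ≤ Q ⊓ 𝐂₁ s := sup_le (zpowers_le.2 ⟨m.mem, f.tT.2⟩)
      (zpowers_le.2 ⟨hs, f.sT.2⟩)
    have h1 := dbl (lt_of_le_not_ge (le_sup_left (a := zpowers t)) fun k =>
      s1 (k (mem_sup_right (mem_zpowers s))))
    have h2 := dbl (lt_of_le_not_ge l fun k => o (by
      obtain ⟨a, ha, b, hb, e⟩ := (mem_sup_norm' (zpowers_le.2 (cn f.st))).1
        (k ⟨aQ, mem_cent1.2 (m.comm h hs (sq2 f.os)).symm⟩)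
      rw [← e]
      rcases (mem2 m.o2).1 ha with rfl | rfl <;> rcases (mem2 f.os).1 hb with rfl | rfl <;>
        simp [f.st]))
    have h3 := dbl (lt_of_le_not_ge (inf_le_left (a := Q) (b := 𝐂₁ s)) fun k =>
      s1 ((mem2 m.o2).2 (m.ctr h hs (le_cent1_iff.1 (k.trans inf_le_right)))))
    have h4 := m.bound h hs f
    have h5 := m.mod h
    obtain ⟨n, e⟩ := m.pi.card_pow
    rw [card2 m.o2] at h1
    rw [e] at h3 h4 h5 ⊢
    have : n ≤ 6 := (Nat.pow_le_pow_iff_right one_lt_two).1 h4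
    interval_cases n <;> omega
  have n := m.nK
  have I : ∀ {k g}, k ∈ Q → g ∈ Q → (g * k * g⁻¹ = k ∨ g * k * g⁻¹ = k * t ↔
      qe (zpowers t) g ∈ 𝐂₁ (qe (zpowers t) k)) := fun hk hg => by
    rw [← eqv m.o2, ← qe_eq_iff (n hk) (n (mul_mem (mul_mem hg hk) (inv_mem hg))),
      qe_conj (n hg) (n hk), mem_cent1, eq_mul_inv_iff_mul_eq, eq_comm]
  have Z : ∀ {k}, k ∈ Q → (∀ g ∈ Q, g * k * g⁻¹ = k ∨ g * k * g⁻¹ = k * t) →
      qe (zpowers t) k ∈ 𝐙 (qt (zpowers t) Q) := fun hk e => ⟨qe_mem_qt hk (n hk), fun w hw => by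
    obtain ⟨g, hg, -, rfl⟩ := mem_qt.1 hw
    exact mem_cent1.1 ((I hk hg).1 (e g hg))⟩
  have c16 : ♯(qt (zpowers t) Q) = 16 := by
    have := card_mul_relIndex tQ
    rw [card2 m.o2, c32, ← card_qt n] at this
    omega
  have os : orderOf (qe (zpowers t) s) = 2 := ord2 (by
    rw [← qe_mul (n hs) (n hs), sq2 f.os, qe_one]) (by rwa [Ne, qe_eq_one (n hs)])
  have h1 := dbl (lt_of_le_not_ge (zpowers_le.2 (Z hs fun g hg => f.cj g (m.QS hg))) fun k => o (by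
    have := k (Z aQ fun g hg => by
      have e : g * (x * s * x⁻¹) * g⁻¹ = x * (x⁻¹ * g * x * s * (x⁻¹ * g * x)⁻¹) * x⁻¹ := by group
      rw [e]
      refine (f.cj _ (m.QS (m.cj' hg))).imp (fun e => by rw [e]) fun e => ?_
      rw [e]; nth_rw 2 [← m.cjt]; group)
    rw [mem2 os, qe_eq_one (n aQ), mem2 m.o2, eq_comm (a := qe _ _), qe_eq_iff (n hs) (n aQ),
      eqv m.o2] at this
    tauto))
  rw [card2 os] at h1
  have ab : ∀ k ∈ Q, ∀ g ∈ Q, g * k * g⁻¹ = k ∨ g * k * g⁻¹ = k * t := fun k hk g hg => by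
    by_cases e : qe (zpowers t) k ∈ 𝐙 (qt (zpowers t) Q)
    · exact (I hk hg).2 (mem_cent1.2 (e.2 _ (qe_mem_qt hg (n hg))))
    refine m.idx2 h hk (D := qp (zpowers t) (𝐂₁ (qe (zpowers t) k))) ?_
      (fun g h1 h2 => (I hk h2).2 (mem_qp.1 h1).2) hg
    have h2 := dbl (lt_of_le_not_ge (inf_le_inf_left (qt (zpowers t) Q) (cent_le_cent1
      (qe_mem_qt hk (n hk)))) fun j => e (j ⟨qe_mem_qt hk (n hk), self_mem_cent1 _⟩))
    have h3 := card_inf_mul_relIndex (𝐂₁ (qe (zpowers t) k)) (qt (zpowers t) Q)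
    rw [relIndex_qp_left _ n]
    rw [inf_comm, c16] at h3
    nlinarith
  refine ⟨c32, ⟨m.mem, m.o2, fun g hg => m.cm hg, fun k hk => m.ctr h (mul_mem hk hk)
    fun g hg => mul_inv_eq_iff_eq_mul.1 ?_, fun k hk e _ => m.ctr h hk e⟩, fun k => m.ctr h,
    fun k => s1 (k hs)⟩
  have e : g * (k * k) * g⁻¹ = g * k * g⁻¹ * (g * k * g⁻¹) := by group
  rw [e]
  rcases ab k hk g hg with j | j <;> rw [j]
  calc _ = k * (t * k) * t := by group
    _ = k * k * (t * t) := by rw [← m.cm hk]; group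
    _ = _ := by rw [sq2 m.o2, mul_one]

theorem one [IsSimpleGroup G] (hG : ¬ IsMulCommutative G) (hq : q ∈ Q) (q2 : q * q = 1) :
    q = 1 ∨ q = t := by
  by_contra! k
  obtain ⟨s, hs, f⟩ := m.fo h ⟨q, hq, q2, k⟩
  obtain ⟨c, E⟩ := m.ex h hs f
  obtain ⟨u, hu, u1⟩ := m.exu
  obtain ⟨w, hw, e⟩ := m.cju h hu u1
  obtain ⟨g, e'⟩ := h.cj _ _ m.o2 f.os
  rcases W2.reduce' E c (by rw [← m.cH, c]) m.le m.nQ (mem_cent1.2 m.c) (cu3 m.o3)
    (fun c hc e => by rw [← mem2 m.o2, ← m.cent h]; exact ⟨hc, mem_cent1.2 e⟩) (m.lS hu)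
    (by rwa [e, inv_mul_cancel_right]) (k := g) (e' ▸ hs) (e' ▸ f.ne) with ⟨φ, C, -⟩ | ⟨φ, C, d⟩
  · refine W2.T1.nu C (h.cj _ _ ?_ ?_) <;> rw [orderOf_injective φ C.inj]
    exacts [ord2 C.zz C.z1, ord2 (by decide +kernel) (by decide +kernel)]
  · rcases W2.T2.main C d with ⟨N, n, a, -, c, ⟨e⟩⟩ | ⟨⟨e⟩⟩ | ⟨⟨e⟩⟩
    · rcases n.eq_bot_or_eq_top with rfl | rfl
      · simp at c
      · exact hG ⟨⟨fun _ _ => (Abel.of_comm a).mul_comm trivial trivial⟩⟩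
    exacts [h.not_A8 e, h.not_A9 e]

end St

end CF.Six
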